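import Cfsg.Agent.Lib.TransitiveLinear.Twisted

/-!
Counting lemmas for operators of class two representations: irreducible elements of prime order,
their commutants and the resulting orbit equation.
-/

set_option autoImplicit false
set_option linter.unusedSectionVars false

open Matrix

namespace CfsgLib.TransitiveLinear

variable {F : Type*} [Field F] [Finite F] {ι : Type*} [Fintype ι] [DecidableEq ι] [Nonempty ι]

/-- An element of prime order `t` for which `|F|` has order `dim` mod `t` is irreducible. -/
theorem irreducible_of_order {Γ : Type*} [Group Γ] [Finite Γ] {t : ℕ} [Fact t.Prime]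
    (hΓ : IsPGroup t Γ) (T : Γ →* Matrix ι ι F) (hT : Function.Injective T) [Nontrivial Γ]
    (hord : orderOf (Nat.card F : ZMod t) = Fintype.card ι)
    (U : Submodule F (ι → F)) (hU : ∀ u, ∀ x ∈ U, T u *ᵥ x ∈ U) : U = ⊥ ∨ U = ⊤ := by
  classical
  let Fix : Submodule F (ι → F) :=
    { carrier := {x | ∀ u, T u *ᵥ x = x}
      add_mem' := fun {a b} ha hb u => by rw [Matrix.mulVec_add, ha u, hb u]
      zero_mem' := fun u => Matrix.mulVec_zero _
      smul_mem' := fun c a ha u => by rw [Matrix.mulVec_smul, ha u] }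
  set n := Fintype.card ι with hn
  have hn0 : 0 < n := Fintype.card_pos
  have hq : IsUnit (Nat.card F : ZMod t) := by
    rw [isUnit_iff_ne_zero]
    intro h
    rw [h, orderOf_eq_zero_iff'.2 (fun m hm => by rw [zero_pow hm.ne']; exact zero_ne_one)] at hord
    omega
  have hdim : Module.finrank F (ι → F) = n := Module.finrank_pi F
  -- congruence between a submodule and its fixed vectors
  have key : ∀ W : Submodule F (ι → F), (∀ u, ∀ x ∈ W, T u *ᵥ x ∈ W) →
      n ∣ Module.finrank F W - Module.finrank F (W ⊓ Fix : Submodule F (ι → F)) := by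
    intro W hW
    let _ : MulAction Γ W :=
      { smul := fun u x => ⟨T u *ᵥ x.1, hW u x x.2⟩
        one_smul := fun x => Subtype.ext (by show T 1 *ᵥ x.1 = x.1; rw [map_one, Matrix.one_mulVec])
        mul_smul := fun u v x => Subtype.ext (by
          show T (u * v) *ᵥ x.1 = T u *ᵥ (T v *ᵥ x.1)
          rw [map_mul, Matrix.mulVec_mulVec]) }
    have h1 := hΓ.card_modEq_card_fixedPoints W
    have h2 : Nat.card (MulAction.fixedPoints Γ W) = Nat.card (W ⊓ Fix : Submodule F (ι → F)) :=
      Nat.card_congr
        { toFun := fun x => ⟨x.1.1, x.1.2, fun u => congrArg Subtype.val (x.2 u)⟩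
          invFun := fun y => ⟨⟨y.1, y.2.1⟩, fun u => Subtype.ext (y.2.2 u)⟩
          left_inv := fun x => rfl
          right_inv := fun y => rfl }
    rw [h2, Module.natCard_eq_pow_finrank (K := F), Module.natCard_eq_pow_finrank (K := F)
      (V := (W ⊓ Fix : Submodule F (ι → F))), ← ZMod.natCast_eq_natCast_iff, Nat.cast_pow,
      Nat.cast_pow] at h1
    have hle : Module.finrank F (W ⊓ Fix : Submodule F (ι → F)) ≤ Module.finrank F W :=
      Submodule.finrank_mono inf_le_left
    rw [← hord, orderOf_dvd_iff_pow_eq_one]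
    refine mul_right_cancel₀
      (hq.pow (Module.finrank F (W ⊓ Fix : Submodule F (ι → F)))).ne_zero ?_
    rw [← pow_add, Nat.sub_add_cancel hle, one_mul]
    exact h1
  have hFix : Fix = ⊥ := by
    have h := key ⊤ fun _ _ _ => Submodule.mem_top
    rw [top_inf_eq, finrank_top, hdim] at h
    have hlt : Module.finrank F Fix < n := by
      rw [← hdim]
      refine Submodule.finrank_lt fun htop => ?_
      obtain ⟨u, hu⟩ := exists_ne (1 : Γ)
      refine hu (hT ((map_one T).symm ▸ Matrix.ext_of_mulVec_single fun i => ?_))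
      rw [Matrix.one_mulVec]
      exact (htop.symm ▸ Submodule.mem_top : Pi.single i (1 : F) ∈ Fix) u
    rcases Nat.eq_zero_or_pos (Module.finrank F Fix) with h0 | h0
    · exact Submodule.finrank_eq_zero.1 h0
    · have := Nat.le_of_dvd (by omega) h
      omega
  have h := key U hU
  rw [hFix, inf_bot_eq, finrank_bot, Nat.sub_zero] at h
  have hle : Module.finrank F U ≤ n := hdim ▸ Submodule.finrank_le U
  rcases Nat.eq_zero_or_pos (Module.finrank F U) with h0 | h0
  · exact Or.inl (Submodule.finrank_eq_zero.1 h0)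
  · exact Or.inr (Submodule.eq_top_of_finrank_eq (by
      rw [hdim]; exact le_antisymm hle (Nat.le_of_dvd h0 h)))

/-- The commutant of a commutative group with an irreducible element is as large as the space. -/
theorem card_commutant_of_irreducible {Γ : Type*} [Group Γ] (T : Γ →* Matrix ι ι F)
    (hab : ∀ u v : Γ, u * v = v * u) (u₀ : Γ)
    (hirr : ∀ U : Submodule F (ι → F), (∀ x ∈ U, T u₀ *ᵥ x ∈ U) → U = ⊥ ∨ U = ⊤) :
    Nat.card {X : Matrix ι ι F // ∀ u, T u * X = X * T u} = Nat.card F ^ Fintype.card ι := by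
  classical
  obtain ⟨i⟩ := (inferInstance : Nonempty ι)
  set v : ι → F := Pi.single i 1 with hv
  have hv0 : v ≠ 0 := fun h => one_ne_zero (α := F) (by simpa [hv] using congrFun h i)
  have hb : Function.Bijective
      (fun X : {X : Matrix ι ι F // ∀ u, T u * X = X * T u} => X.1 *ᵥ v) := by
    constructor
    · rintro ⟨X, hX⟩ ⟨Y, hY⟩ h
      let U : Submodule F (ι → F) := LinearMap.ker (Matrix.mulVecLin (X - Y))
      have hvU : v ∈ U := by
        simp only [U, LinearMap.mem_ker, Matrix.mulVecLin_apply, Matrix.sub_mulVec]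
        exact sub_eq_zero.2 h
      rcases hirr U (fun x hx => by
        simp only [U, LinearMap.mem_ker, Matrix.mulVecLin_apply] at hx ⊢
        rw [Matrix.mulVec_mulVec, sub_mul, ← hX, ← hY, ← mul_sub, ← Matrix.mulVec_mulVec, hx,
          Matrix.mulVec_zero]) with hU | hU
      · exact absurd ((Submodule.mem_bot F).1 (hU ▸ hvU)) hv0
      · refine Subtype.ext (sub_eq_zero.1 (Matrix.ext_of_mulVec_single fun j => ?_))
        rw [Matrix.zero_mulVec]
        exact (Matrix.mulVecLin_apply _ _).symm.trans
          (LinearMap.mem_ker.1 (hU.symm ▸ Submodule.mem_top : Pi.single j (1 : F) ∈ U))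
    · intro y
      let U : Submodule F (ι → F) :=
        { carrier := {z | ∃ X : Matrix ι ι F, (∀ u, T u * X = X * T u) ∧ X *ᵥ v = z}
          add_mem' := by
            rintro _ _ ⟨X, hX, rfl⟩ ⟨Y, hY, rfl⟩
            exact ⟨X + Y, fun u => by rw [mul_add, hX, hY, add_mul], Matrix.add_mulVec _ _ _⟩
          zero_mem' := ⟨0, fun u => by simp, Matrix.zero_mulVec _⟩
          smul_mem' := by
            rintro c _ ⟨X, hX, rfl⟩
            exact ⟨c • X, fun u => by rw [mul_smul_comm, hX, smul_mul_assoc],
              Matrix.smul_mulVec _ _ _⟩ }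
      have hvU : v ∈ U := ⟨1, fun u => by simp, Matrix.one_mulVec _⟩
      rcases hirr U (fun z hz => by
        obtain ⟨X, hX, rfl⟩ := hz
        exact ⟨T u₀ * X, fun u => by rw [← mul_assoc, ← map_mul, hab, map_mul, mul_assoc, hX,
          ← mul_assoc], (Matrix.mulVec_mulVec _ _ _).symm⟩) with hU | hU
      · exact absurd ((Submodule.mem_bot F).1 (hU ▸ hvU)) hv0
      · obtain ⟨X, hX, hXy⟩ : y ∈ U := hU.symm ▸ Submodule.mem_top
        exact ⟨⟨X, hX⟩, hXy⟩
  rw [Nat.card_eq_of_bijective _ hb, Nat.card_fun, Nat.card_eq_fintype_card (α := ι)]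

variable {N : Type*} [Group N] [Finite N] {R : ClassTwoRep F ι N}

/-- The orbit equation for a commutative group of operators with an irreducible element. -/
theorem orbit_equation {Γ : Type*} [Group Γ] [Finite Γ] (O : Operators R Γ)
    (hcop : (Nat.card Γ).Coprime (Nat.card (Subgroup.center N)))
    (hab : ∀ u v : Γ, u * v = v * u) (u₀ : Γ)
    (hirr : ∀ U : Submodule F (ι → F), (∀ x ∈ U, O.T u₀ *ᵥ x ∈ U) → U = ⊥ ∨ U = ⊤) :
    letI := O.quotientAction
    (∑ᶠ u : Γ, Nat.card (MulAction.fixedBy (N ⧸ Subgroup.center N) u)) =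
      Fintype.card ι * Nat.card Γ := by
  classical
  letI := O.quotientAction
  haveI : Fintype Γ := Fintype.ofFinite Γ
  haveI : Fintype (N ⧸ Subgroup.center N) := Fintype.ofFinite _
  have h1 := O.card_commutant hcop
  rw [card_commutant_of_irreducible O.T hab u₀ hirr] at h1
  have h2 := Nat.pow_right_injective (Finite.one_lt_card (α := F)) h1
  rw [h2, finsum_eq_sum_of_fintype]
  have h3 := MulAction.sum_card_fixedBy_eq_card_orbits_mul_card_group Γ (N ⧸ Subgroup.center N)
  simp only [← Nat.card_eq_fintype_card] at h3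
  exact h3

/-- The fixed classes of an operator form a subgroup of the central quotient. -/
theorem card_fixedBy_dvd {Γ : Type*} [Group Γ] [Finite Γ] (O : Operators R Γ) (u : Γ) :
    letI := O.quotientAction
    Nat.card (MulAction.fixedBy (N ⧸ Subgroup.center N) u) ∣ (Subgroup.center N).index := by
  letI := O.quotientAction
  have hmul : ∀ a b : N ⧸ Subgroup.center N, u • (a * b) = (u • a) * (u • b) := fun a b =>
    map_mul (QuotientGroup.map _ _ (O.act u).toMonoidHom _) a b
  let S : Subgroup (N ⧸ Subgroup.center N) :=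
    { carrier := MulAction.fixedBy (N ⧸ Subgroup.center N) u
      one_mem' := map_one (QuotientGroup.map _ _ (O.act u).toMonoidHom _)
      mul_mem' := fun {a b} ha hb => (hmul a b).trans (by rw [show u • a = a from ha, show u • b = b from hb])
      inv_mem' := fun {a} ha => by
        show u • a⁻¹ = a⁻¹
        refine eq_inv_of_mul_eq_one_left ?_
        have := hmul a⁻¹ a
        rw [inv_mul_cancel, show u • a = a from ha] at this
        rw [← this]
        exact map_one (QuotientGroup.map _ _ (O.act u).toMonoidHom _) }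
  exact S.card_subgroup_dvd_card

/-- The arithmetic of the orbit equation. -/
theorem eq_succ_of_orbit_equation {n t C r m : ℕ} (hr : r.Prime) (hn : n = r ^ m) (hm : 0 < m)
    (ht : 1 < t) (hnt : n ∣ t - 1) (hC : C ∣ n ^ 2) (heq : n ^ 2 + (t - 1) * C = n * t) :
    t = n + 1 ∧ C = 1 := by
  obtain ⟨s, hs⟩ := hnt
  have hn2 : 2 ≤ n := hn ▸ (hr.two_le.trans (Nat.le_self_pow hm.ne' r))
  obtain ⟨c, -, hc⟩ := (Nat.dvd_prime_pow hr).1 (hn ▸ hC |>.trans (dvd_of_eq (pow_mul r m 2).symm))
  have ht' : t = n * s + 1 := by omega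
  have key : n + s * C = n * s + 1 := by
    refine Nat.eq_of_mul_eq_mul_left (show 0 < n by omega) ?_
    rw [← ht', ← heq, hs]
    ring
  rcases Nat.eq_zero_or_pos c with rfl | hc0
  · rw [pow_zero] at hc
    subst hc
    refine ⟨?_, rfl⟩
    have : s = 1 := by
      by_contra h
      rcases Nat.lt_or_ge s 1 with h1 | h1
      · interval_cases s; omega
      · have : 2 ≤ s := by omega
        nlinarith
    subst this
    omega
  · exfalso
    have h1 : r ∣ n + s * C := dvd_add (hn ▸ dvd_pow_self r hm.ne')
      (dvd_mul_of_dvd_right (hc ▸ dvd_pow_self r hc0.ne') s)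
    rw [key] at h1
    have h2 : r ∣ n * s := dvd_mul_of_dvd_left (hn ▸ dvd_pow_self r hm.ne') s
    exact hr.one_lt.ne' (Nat.dvd_one.1 ((Nat.dvd_add_right h2).1 h1))

end CfsgLib.TransitiveLinear
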