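import Cfsg.Agent.Lib.PermGroups.RegularTypes
import Mathlib.FieldTheory.Finite.GaloisField

/-!
Linear groups transitive on the non-zero vectors: normal subgroups and the semilinear case.
-/

set_option autoImplicit false
set_option linter.unusedSectionVars false
set_option linter.style.haveILetI false

namespace CfsgLib.TransitiveLinear

open CfsgLib.PermGroups.Regular

variable {p : ℕ} [Fact p.Prime] {V : Type*} [AddCommGroup V] [Module (ZMod p) V] [Finite V]
  {H : Subgroup (V ≃ₗ[ZMod p] V)}
  (htr : ∀ v w : V, v ≠ 0 → w ≠ 0 → ∃ h : H, (h : V ≃ₗ[ZMod p] V) v = w)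

include htr

theorem transitive_orb_symm {M : Subgroup H} (hM : M.Normal) {v u : V} (hu : u ∈ orb (alg M) v)
    (hu0 : u ≠ 0) : v ∈ orb (alg M) u := by
  classical
  have hv : v ≠ 0 := fun h => hu0 (by obtain ⟨r, -, rfl⟩ := mem_orb.1 hu; rw [h, map_zero])
  let S := {W : Submodule (ZMod p) V | W ≠ ⊥ ∧ InvUnder M W}
  obtain ⟨W, ⟨hW0, hWi⟩, hmin⟩ := (wellFounded_lt (α := Submodule (ZMod p) V)).has_min S
    ⟨⊤, fun h => hv ((Submodule.mem_bot (ZMod p)).1 (h ▸ Submodule.mem_top)),
      fun _ _ _ _ => Submodule.mem_top⟩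
  obtain ⟨w, hw, hw0⟩ := Submodule.exists_mem_ne_zero_of_ne_bot hW0
  obtain ⟨h, hh⟩ := htr w v hw0 hv
  have hmove : ∀ (g : H) (x y : V), y ∈ orb (alg M) x →
      (g : V ≃ₗ[ZMod p] V) y ∈ orb (alg M) ((g : V ≃ₗ[ZMod p] V) x) := by
    intro g x y hy
    obtain ⟨r, hr, rfl⟩ := mem_orb.1 hy
    refine mem_orb.2 ⟨endHom H g * r * endHom H g⁻¹, conj_mem_alg hM g hr, ?_⟩
    have e : endHom H g⁻¹ ((g : V ≃ₗ[ZMod p] V) x) = x := by
      rw [← endHom_apply, ← Module.End.mul_apply, ← map_mul, inv_mul_cancel, map_one]; rfl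
    simp only [Module.End.mul_apply, e]
    rfl
  set u' := endHom H h⁻¹ u with hu'
  have hv' : endHom H h⁻¹ v = w := by
    rw [← hh, ← endHom_apply, ← Module.End.mul_apply, ← map_mul, inv_mul_cancel, map_one]; rfl
  have hu'W : u' ∈ W := by
    refine orb_le_of_invUnder hWi hw ?_
    rw [← hv']
    exact hmove h⁻¹ v u hu
  have hback : (h : V ≃ₗ[ZMod p] V) u' = u := by
    rw [hu', ← endHom_apply, ← Module.End.mul_apply, ← map_mul, mul_inv_cancel, map_one]; rfl
  have hWeq : orb (alg M) u' = W := by
    by_contra hne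
    refine hmin (orb (alg M) u') ⟨fun hb => ?_, invUnder_orb M u'⟩
      (lt_of_le_of_ne (orb_le_of_invUnder hWi hu'W) hne)
    have := self_mem_orb (alg M) u'
    rw [hb, Submodule.mem_bot] at this
    rw [this, map_zero] at hback
    exact hu0 hback.symm
  have := hmove h u' w (hWeq.symm ▸ hw)
  rwa [hh, hback] at this

/-- A normal subgroup is irreducible or generates a field. -/
theorem transitive_irred_or_isInj {M : Subgroup H} (hM : M.Normal) :
    Irred M ∨ IsInj (alg M) := by
  by_cases h : ∃ v : V, v ≠ 0 ∧ orb (alg M) v = ⊤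
  · obtain ⟨v, hv, hvt⟩ := h
    refine Or.inl fun W hW => or_iff_not_imp_left.2 fun hne => ?_
    obtain ⟨u, hu, hu0⟩ := Submodule.exists_mem_ne_zero_of_ne_bot hne
    rw [eq_top_iff, ← hvt]
    exact orb_le_of_invUnder hW
      (orb_le_of_invUnder hW hu (transitive_orb_symm htr hM (hvt ▸ Submodule.mem_top) hu0))
  · push Not at h
    right
    intro r hr v hv hrv
    have hout : ∀ w, w ∉ orb (alg M) v → r w = 0 := by
      intro w hw
      by_contra hne
      have hx : r (v + w) = r w := by rw [map_add, hrv, zero_add]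
      have h1 : v + w ∈ orb (alg M) (r w) :=
        transitive_orb_symm htr hM (mem_orb.2 ⟨r, hr, hx⟩) hne
      have h2 : v + w ∈ orb (alg M) w := orb_le (mem_orb.2 ⟨r, hr, rfl⟩) h1
      have h3 : v ∈ orb (alg M) w := by
        have := Submodule.sub_mem _ h2 (self_mem_orb (alg M) w)
        rwa [add_sub_cancel_right] at this
      exact hw (transitive_orb_symm htr hM h3 hv)
    obtain ⟨u, -, hu⟩ := SetLike.exists_of_lt (lt_top_iff_ne_top.2 (h v hv))
    ext w
    rw [LinearMap.zero_apply]
    by_cases hw : w ∈ orb (alg M) v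
    · have h4 := hout (u + w) (fun h' => hu (by simpa using Submodule.sub_mem _ h' hw))
      rwa [map_add, hout u hu, zero_add] at h4
    · exact hout w hw

/-- An abelian normal subgroup generates a field. -/
theorem transitive_isInj_of_abelian {M : Subgroup H} (hM : M.Normal) (hc : IsMulCommutative M) :
    IsInj (alg M) := by
  rcases transitive_irred_or_isInj htr hM with h | h
  · refine fun r hr => isInj_commutant h r ?_
    refine (Algebra.adjoin_le ?_) hr
    rintro _ ⟨a, ha, rfl⟩
    refine Subalgebra.mem_centralizer_iff (R := ZMod p) |>.2 ?_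
    rintro _ ⟨b, hb, rfl⟩
    rw [← map_mul, ← map_mul]
    exact congrArg (endHom H) (congrArg Subtype.val (hc.is_comm.comm (⟨b, hb⟩ : M) ⟨a, ha⟩))
  · exact h

/-- A non-abelian normal subgroup is irreducible. -/
theorem transitive_irred_of_nonabelian [Nontrivial V] {M : Subgroup H} (hM : M.Normal)
    (hna : ¬ IsMulCommutative M) : Irred M := by
  refine (transitive_irred_or_isInj htr hM).resolve_right fun h =>
    hna (IsMulCommutative.of_comm fun a b => ?_)
  exact Subtype.ext (endHom_injective H (by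
    rw [Subgroup.coe_mul, Subgroup.coe_mul, map_mul, map_mul]
    exact h.comm (mem_alg a.2) (mem_alg b.2)))

/-- The order of a transitive group is a multiple of the number of non-zero vectors. -/
theorem sub_one_dvd_card [Nontrivial V] : Nat.card V - 1 ∣ Nat.card H := by
  classical
  haveI := Fintype.ofFinite V
  let X := {w : V // w ≠ 0}
  let _ : MulAction H X :=
    { smul := fun h x => ⟨(h : V ≃ₗ[ZMod p] V) x.1, (LinearEquiv.map_ne_zero_iff _).2 x.2⟩
      one_smul := fun x => Subtype.ext rfl
      mul_smul := fun a b x => Subtype.ext rfl }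
  obtain ⟨v, hv⟩ := exists_ne (0 : V)
  have hpre : MulAction.IsPretransitive H X := ⟨fun a b => by
    obtain ⟨h, hh⟩ := htr a.1 b.1 a.2 b.2
    exact ⟨h, Subtype.ext hh⟩⟩
  have horb : MulAction.orbit H (⟨v, hv⟩ : X) = Set.univ := MulAction.orbit_eq_univ H _
  have h1 := Nat.card_congr (MulAction.orbitEquivQuotientStabilizer H (⟨v, hv⟩ : X))
  have h2 : Nat.card (MulAction.orbit H (⟨v, hv⟩ : X)) = Nat.card V - 1 := by
    rw [horb, Nat.card_congr (Equiv.Set.univ X), Nat.card_eq_fintype_card, Fintype.card_subtype_compl,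
      Fintype.card_subtype_eq, Nat.card_eq_fintype_card]
  rw [← h2, h1]
  exact Subgroup.card_quotient_dvd_card _

end CfsgLib.TransitiveLinear

namespace CfsgLib.TransitiveLinear

open CfsgLib.PermGroups.Regular

/-- With an irreducible abelian normal subgroup a transitive group is semilinear. -/
theorem semilinear_of_irred_abelian {p : ℕ} [Fact p.Prime] {V : Type*} [AddCommGroup V]
    [Module (ZMod p) V] [Finite V] [Nontrivial V] {H : Subgroup (V ≃ₗ[ZMod p] V)}
    {A : Subgroup H} (hA : A.Normal) (hc : IsMulCommutative A) (hirr : Irred A) :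
    ∃ (F : Type) (_ : Field F) (_ : Fintype F) (e : V ≃+ F),
      ∀ g : H, ∃ (a : F) (σ : F ≃+* F), ∀ v : V, e ((g : V ≃ₗ[ZMod p] V) v) = a * σ (e v) := by
  classical
  haveI : Finite (Module.End (ZMod p) V) :=
    Finite.of_injective (fun f : Module.End (ZMod p) V => (f : V → V)) DFunLike.coe_injective
  have hS : IsInj (alg A) := fun r hr => isInj_commutant hirr r (Algebra.adjoin_le (by
    rintro _ ⟨a, ha, rfl⟩
    refine Subalgebra.mem_centralizer_iff (R := ZMod p) |>.2 ?_
    rintro _ ⟨b, hb, rfl⟩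
    rw [← map_mul, ← map_mul]
    exact congrArg (endHom H) (congrArg Subtype.val (hc.is_comm.comm (⟨b, hb⟩ : A) ⟨a, ha⟩))) hr)
  obtain ⟨v, hv⟩ := exists_ne (0 : V)
  have htop : orb (alg A) v = ⊤ := by
    refine (hirr _ (invUnder_orb A v)).resolve_left fun h => hv ?_
    have := self_mem_orb (alg A) v
    rwa [h, Submodule.mem_bot] at this
  let K := alg A
  letI : Field K := hS.isField.toField
  have hbij : Function.Bijective (fun k : K => (k : Module.End (ZMod p) V) v) := by
    constructor
    · intro a b hab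
      refine Subtype.ext (sub_eq_zero.1 (hS _ (K.sub_mem a.2 b.2) v hv ?_))
      rw [LinearMap.sub_apply]; exact sub_eq_zero.2 hab
    · intro u
      obtain ⟨r, hr, hru⟩ := mem_orb.1 (htop ▸ Submodule.mem_top : u ∈ orb (alg A) v)
      exact ⟨⟨r, hr⟩, hru⟩
  obtain ⟨r, hrchar⟩ := CharP.exists K
  haveI : Fintype K := Fintype.ofFinite K
  obtain ⟨n, hrp, hn⟩ := FiniteField.card K r
  haveI : Fact r.Prime := ⟨hrp⟩
  letI : Fintype (GaloisField r n) := Fintype.ofFinite _
  have hcard : Fintype.card (GaloisField r n) = Fintype.card K := by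
    rw [hn, ← Nat.card_eq_fintype_card, GaloisField.card r n n.ne_zero]
  let ι : GaloisField r n ≃+* K := FiniteField.ringEquivOfCardEq hcard
  let ε : GaloisField r n ≃+ V :=
    AddEquiv.ofBijective
      ({ toFun := fun x => (ι x : Module.End (ZMod p) V) v
         map_zero' := by simp
         map_add' := fun x y => by simp } : GaloisField r n →+ V)
      (hbij.comp ι.bijective)
  refine ⟨GaloisField r n, inferInstance, inferInstance, ε.symm, fun g => ?_⟩
  have hgg : ∀ x y : Module.End (ZMod p) V, endHom H g * (x * y) * endHom H g⁻¹ =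
      (endHom H g * x * endHom H g⁻¹) * (endHom H g * y * endHom H g⁻¹) := fun x y => by
    simp only [mul_assoc]
    rw [← mul_assoc (endHom H g⁻¹) (endHom H g), ← map_mul, inv_mul_cancel, map_one, one_mul]
  let σK : K ≃+* K :=
    { toFun := fun k => ⟨endHom H g * k * endHom H g⁻¹, conj_mem_alg hA g k.2⟩
      invFun := fun k => ⟨endHom H g⁻¹ * k * endHom H g, by
        simpa using conj_mem_alg hA g⁻¹ k.2⟩
      left_inv := fun k => Subtype.ext (by
        show endHom H g⁻¹ * (endHom H g * (k : Module.End (ZMod p) V) * endHom H g⁻¹) * endHom H g = k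
        simp only [← mul_assoc, ← map_mul, inv_mul_cancel, map_one, one_mul]
        rw [mul_assoc, ← map_mul, inv_mul_cancel, map_one, mul_one])
      right_inv := fun k => Subtype.ext (by
        show endHom H g * (endHom H g⁻¹ * (k : Module.End (ZMod p) V) * endHom H g) * endHom H g⁻¹ = k
        simp only [← mul_assoc, ← map_mul, mul_inv_cancel, map_one, one_mul]
        rw [mul_assoc, ← map_mul, mul_inv_cancel, map_one, mul_one])
      map_mul' := fun a b => Subtype.ext (hgg a b)
      map_add' := fun a b => Subtype.ext (by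
        show endHom H g * ((a : Module.End (ZMod p) V) + b) * endHom H g⁻¹ = _
        rw [mul_add, add_mul]; rfl) }
  refine ⟨ε.symm ((g : V ≃ₗ[ZMod p] V) v), (ι.trans σK).trans ι.symm, fun u => ?_⟩
  apply ε.injective
  rw [AddEquiv.apply_symm_apply]
  have hε : ∀ x, ε x = (ι x : Module.End (ZMod p) V) v := fun _ => rfl
  rw [hε, map_mul, mul_comm, Subalgebra.coe_mul, Module.End.mul_apply, ← hε,
    AddEquiv.apply_symm_apply]
  obtain ⟨x, rfl⟩ := ε.surjective u
  rw [AddEquiv.symm_apply_apply]
  simp only [RingEquiv.trans_apply, RingEquiv.apply_symm_apply]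
  show endHom H g (ε x) = (endHom H g * (ι x : Module.End (ZMod p) V) * endHom H g⁻¹) (endHom H g v)
  rw [← Module.End.mul_apply, mul_assoc (endHom H g * _), ← map_mul, inv_mul_cancel, map_one,
    mul_one, hε]
  rfl

end CfsgLib.TransitiveLinear
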