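import Cfsg.Agent.Lib.TransitiveLinear.Twisted

/-!
Operators of a class two representation of degree two: at most 24 induced automorphisms.
-/

set_option autoImplicit false
set_option linter.unusedSectionVars false
set_option linter.style.haveILetI false

namespace CfsgLib.TransitiveLinear

variable {F : Type*} [Field F] {ι : Type*} [Fintype ι] [DecidableEq ι] [Nonempty ι]
  {N : Type*} [Group N] [Finite N] {R : ClassTwoRep F ι N} {L : Type*} [Group L] [Finite L]

theorem card_dvd_of_index_four (O : Operators R L) (hW : (Subgroup.center N).index = 4)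
    (hna : ¬ IsMulCommutative N) : Nat.card L ∣ 24 * Nat.card O.act.ker := by
  classical
  letI := O.quotientAction
  have hsmul : ∀ (u : L) (x : N),
      u • (x : N ⧸ Subgroup.center N) = ((O.act u x : N) : N ⧸ Subgroup.center N) := fun _ _ => rfl
  have hone : ∀ u : L, u • (1 : N ⧸ Subgroup.center N) = 1 := fun u => by
    rw [← QuotientGroup.mk_one, hsmul, map_one]
  have hW4 : Nat.card (N ⧸ Subgroup.center N) = 4 := hW
  haveI : Fintype (N ⧸ Subgroup.center N) := Fintype.ofFinite _
  -- the permutations of the three non-trivial classes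
  let ρ : L →* Equiv.Perm {w : N ⧸ Subgroup.center N // w ≠ 1} :=
    { toFun := fun u => (MulAction.toPerm u).subtypeEquiv fun w =>
        ⟨fun hw h => hw (MulAction.injective u (h.trans (hone u).symm)),
          fun hw h => hw (by subst h; exact hone u)⟩
      map_one' := Equiv.ext fun w => Subtype.ext (one_smul L w.1)
      map_mul' := fun u v => Equiv.ext fun w => Subtype.ext (mul_smul u v w.1) }
  have hρ6 : Nat.card ρ.range ∣ 6 := by
    refine ρ.range.card_subgroup_dvd_card.trans (dvd_of_eq ?_)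
    rw [Nat.card_perm, Nat.card_eq_fintype_card, Fintype.card_subtype_compl,
      Fintype.card_subtype_eq, ← Nat.card_eq_fintype_card, hW4]
    rfl
  have hcomm : ∀ a c : N ⧸ Subgroup.center N, a * c = c * a := by
    intro a c
    induction a using QuotientGroup.induction_on with | _ a => ?_
    induction c using QuotientGroup.induction_on with | _ c => ?_
    rw [← QuotientGroup.mk_mul, ← QuotientGroup.mk_mul, QuotientGroup.eq]
    simpa [mul_assoc] using R.class_two c⁻¹ a⁻¹
  have hnc : ¬ IsCyclic (N ⧸ Subgroup.center N) := fun h => hna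
    (IsMulCommutative.of_comm fun a c => commutative_of_cyclic_center_quotient
      (QuotientGroup.mk' (Subgroup.center N)) (by rw [QuotientGroup.ker_mk']) a c)
  have hxx : ∀ x : N, x ^ 2 ∈ Subgroup.center N := by
    intro x
    rw [← QuotientGroup.eq_one_iff, QuotientGroup.mk_pow]
    by_contra hne
    obtain ⟨i, hi, hi'⟩ := (Nat.dvd_prime_pow Nat.prime_two).1
      (show orderOf (x : N ⧸ Subgroup.center N) ∣ 2 ^ 2 from
        (orderOf_dvd_natCard _).trans (dvd_of_eq (by rw [hW4]; rfl)))
    interval_cases i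
    · rw [pow_zero, orderOf_eq_one_iff] at hi'
      exact hne (by rw [hi', one_pow])
    · exact hne (by rw [← pow_one 2, ← hi', pow_orderOf_eq_one])
    · exact hnc (isCyclic_of_orderOf_eq_card (x : N ⧸ Subgroup.center N) (by rw [hi', hW4]; rfl))
  have hfix : ∀ u ∈ ρ.ker, ∀ x : N, x⁻¹ * O.act u x ∈ Subgroup.center N := by
    intro u hu x
    rw [← QuotientGroup.eq, ← hsmul]
    rcases eq_or_ne (x : N ⧸ Subgroup.center N) 1 with h | h
    · rw [h, hone]
    · exact (congrArg Subtype.val (Equiv.congr_fun (MonoidHom.mem_ker.1 hu) ⟨_, h⟩)).symm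
  -- the central involutions
  let S : Subgroup N :=
    { carrier := {z | z ∈ Subgroup.center N ∧ z ^ 2 = 1}
      one_mem' := ⟨one_mem _, one_pow 2⟩
      mul_mem' := fun {a c} ha hc => ⟨mul_mem ha.1 hc.1, by
        rw [(show Commute a c from Subgroup.mem_center_iff.1 hc.1 a).mul_pow, ha.2, hc.2, one_mul]⟩
      inv_mem' := fun {a} ha => ⟨inv_mem ha.1, by rw [inv_pow, ha.2, inv_one]⟩ }
  have hS : Nat.card S ∣ 2 := by
    have hsq : ∀ z : S, R.rho z = (1 : F) • 1 ∨ R.rho z = (-1 : F) • 1 := by
      intro z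
      obtain ⟨c, hc⟩ := R.scalar _ z.2.1
      have h2 := congrArg R.rho z.2.2
      rw [map_pow, hc, sq, smul_mul_smul_comm, mul_one, map_one] at h2
      obtain ⟨i⟩ := (inferInstance : Nonempty ι)
      have h3 := congrFun (congrFun h2 i) i
      simp only [Matrix.smul_apply, Matrix.one_apply_eq, smul_eq_mul, mul_one] at h3
      rcases mul_self_eq_one_iff.1 h3 with h | h <;> rw [hc, h] <;> simp
    have hle : Nat.card S ≤ 2 := by
      let g : S → Bool := fun z => decide (R.rho z = (1 : F) • 1)
      have hg : Function.Injective g := by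
        intro a c h
        refine Subtype.ext (R.inj ?_)
        simp only [g, decide_eq_decide] at h
        rcases hsq a with ha | ha
        · rw [ha, h.1 ha]
        · rcases hsq c with hc | hc
          · rw [hc, h.2 hc]
          · rw [ha, hc]
      simpa using Nat.card_le_card_of_injective g hg
    have hpos : 0 < Nat.card S := Nat.card_pos
    rcases (show Nat.card S = 1 ∨ Nat.card S = 2 by omega) with h | h <;> rw [h] <;> norm_num
  have hmem : ∀ u ∈ ρ.ker, ∀ x : N, x⁻¹ * O.act u x ∈ S := by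
    intro u hu x
    have hzc := hfix u hu x
    refine ⟨hzc, ?_⟩
    have e : O.act u x = x * (x⁻¹ * O.act u x) := (mul_inv_cancel_left x _).symm
    have h1 := congrArg (fun y => y ^ 2) e
    rw [← map_pow, O.act_center (hxx x),
      (show Commute x (x⁻¹ * O.act u x) from Subgroup.mem_center_iff.1 hzc x).mul_pow] at h1
    exact mul_eq_left.1 h1.symm
  -- two generators modulo the centre
  obtain ⟨x, y, hgen⟩ : ∃ x y : N, ∀ z : N, ∃ i j : ℕ,
      (z : N ⧸ Subgroup.center N) = (x : N ⧸ Subgroup.center N) ^ i * (y : _) ^ j := by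
    haveI : Nontrivial (N ⧸ Subgroup.center N) := Finite.one_lt_card_iff_nontrivial.1 (by omega)
    obtain ⟨a, ha⟩ := exists_ne (1 : N ⧸ Subgroup.center N)
    have hlt : Subgroup.zpowers a ≠ ⊤ := fun h => hnc
      ⟨a, fun z => Subgroup.mem_zpowers_iff.1 (by rw [h]; exact Subgroup.mem_top z)⟩
    obtain ⟨c, -, hc⟩ := SetLike.exists_of_lt (lt_top_iff_ne_top.2 hlt)
    obtain ⟨x, rfl⟩ := QuotientGroup.mk_surjective a
    obtain ⟨y, rfl⟩ := QuotientGroup.mk_surjective c
    refine ⟨x, y, fun z => ?_⟩
    set T := Subgroup.zpowers (x : N ⧸ Subgroup.center N) ⊔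
      Subgroup.zpowers (y : N ⧸ Subgroup.center N)
    have hTtop : T = ⊤ := by
      apply Subgroup.eq_top_of_le_card
      obtain ⟨d, hd⟩ := Subgroup.card_dvd_of_le (le_sup_left : Subgroup.zpowers
        (x : N ⧸ Subgroup.center N) ≤ T)
      have h2 : 1 < Nat.card (Subgroup.zpowers (x : N ⧸ Subgroup.center N)) :=
        (Subgroup.one_lt_card_iff_ne_bot _).2 (by rwa [ne_eq, Subgroup.zpowers_eq_bot])
      have h3 : Subgroup.zpowers (x : N ⧸ Subgroup.center N) ≠ T := fun h =>
        hc (h ▸ (le_sup_right : _ ≤ T) (Subgroup.mem_zpowers _))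
      have h4 : d ≠ 1 := fun h => h3
        (Subgroup.eq_of_le_of_card_ge le_sup_left (by rw [hd, h, mul_one]))
      have h5 : d ≠ 0 := fun h => (Nat.card_pos (α := T)).ne' (by rw [hd, h, mul_zero])
      rw [hW4, hd]
      calc 4 = 2 * 2 := rfl
        _ ≤ _ := Nat.mul_le_mul h2 (by omega)
    have hz : (z : N ⧸ Subgroup.center N) ∈ T := hTtop ▸ Subgroup.mem_top _
    letI : CommGroup (N ⧸ Subgroup.center N) :=
      { (inferInstance : Group (N ⧸ Subgroup.center N)) with mul_comm := hcomm }
    obtain ⟨a, ha, c, hc', e⟩ := Subgroup.mem_sup.1 hz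
    obtain ⟨i, rfl⟩ := mem_powers_iff_mem_zpowers.2 ha
    obtain ⟨j, rfl⟩ := mem_powers_iff_mem_zpowers.2 hc'
    exact ⟨i, j, e.symm⟩
  let ξ : ρ.ker →* S × S :=
    MonoidHom.mk' (fun u => (⟨_, hmem u u.2 x⟩, ⟨_, hmem u u.2 y⟩)) (fun u v => by
      have key : ∀ w : N, w⁻¹ * O.act ((u * v : ρ.ker) : L) w =
          (w⁻¹ * O.act (u : L) w) * (w⁻¹ * O.act (v : L) w) := by
        intro w
        rw [Subgroup.coe_mul, map_mul, MulAut.mul_apply]
        conv_lhs => rw [show O.act (v : L) w = w * (w⁻¹ * O.act (v : L) w) by group, map_mul,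
          O.act_center (hfix v v.2 w), ← mul_assoc]
      exact Prod.ext (Subtype.ext (key x)) (Subtype.ext (key y)))
  have hξ4 : Nat.card ξ.range ∣ 4 := by
    refine ξ.range.card_subgroup_dvd_card.trans ?_
    rw [Nat.card_prod]
    exact mul_dvd_mul hS hS
  have hker : ξ.ker.map ρ.ker.subtype ≤ O.act.ker := by
    rintro _ ⟨u, hu, rfl⟩
    have hx : O.act (u : L) x = x :=
      (inv_mul_eq_one.1 (congrArg (fun z : S × S => (z.1 : N)) (MonoidHom.mem_ker.1 hu))).symm
    have hy : O.act (u : L) y = y :=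
      (inv_mul_eq_one.1 (congrArg (fun z : S × S => (z.2 : N)) (MonoidHom.mem_ker.1 hu))).symm
    refine MonoidHom.mem_ker.2 (MulEquiv.ext fun z => ?_)
    obtain ⟨i, j, hij⟩ := hgen z
    rw [← QuotientGroup.mk_pow, ← QuotientGroup.mk_pow, ← QuotientGroup.mk_mul,
      QuotientGroup.eq] at hij
    have e : z = x ^ i * y ^ j * (z⁻¹ * (x ^ i * y ^ j))⁻¹ := by
      rw [_root_.mul_inv_rev, inv_inv, mul_inv_cancel_left]
    show O.act (u : L) z = z
    conv_lhs => rw [e, map_mul, map_mul, map_pow, map_pow, hx, hy, O.act_center (inv_mem hij), ← e]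
  have h1 : Nat.card L = Nat.card ρ.range * (Nat.card ξ.range * Nat.card ξ.ker) := by
    rw [← Subgroup.card_mul_index ρ.ker, Subgroup.index_ker, ← Subgroup.card_mul_index ξ.ker,
      Subgroup.index_ker]
    ring
  rw [h1, show 24 * Nat.card O.act.ker = 6 * (4 * Nat.card O.act.ker) by ring]
  refine mul_dvd_mul hρ6 (mul_dvd_mul hξ4 ?_)
  rw [← Subgroup.card_map_of_injective ρ.ker.subtype_injective]
  exact Subgroup.card_dvd_of_le hker

end CfsgLib.TransitiveLinear
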