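import Cfsg.Agent.Lib.TransitiveLinear.Arith

/-!
Operators of `t`-power order on a class two representation, where `t` is a prime modulo which the
order of the field has multiplicative order equal to the degree.
-/

set_option autoImplicit false
set_option linter.unusedSectionVars false
set_option linter.style.haveILetI false

open Matrix

namespace CfsgLib.TransitiveLinear

variable {F : Type*} [Field F] [Finite F] {ι : Type*} [Fintype ι] [DecidableEq ι] [Nonempty ι]
  {N : Type*} [Group N] [Finite N] {R : ClassTwoRep F ι N}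

/-- Restriction of operators along a homomorphism. -/
def Operators.comp {L Γ : Type*} [Group L] [Group Γ] (O : Operators R L) (φ : Γ →* L) :
    Operators R Γ where
  T := O.T.comp φ
  act := O.act.comp φ
  conj u x := by
    simp only [MonoidHom.comp_apply, map_inv]
    exact O.conj (φ u) x

variable {L : Type*} [Group L] [Finite L] (O : Operators R L) (hT : Function.Injective O.T)
  {t : ℕ} [ht : Fact t.Prime] (hord : orderOf (Nat.card F : ZMod t) = Fintype.card ι)

include hT hord

/-- An operator of `t`-power order fixes only the zero vector. -/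
theorem fpf_of_prime_power {u : L} (hu1 : u ≠ 1) {k : ℕ} (hu : orderOf u = t ^ k) {w : ι → F}
    (hw : O.T u *ᵥ w = w) : w = 0 := by
  obtain ⟨k, rfl⟩ : ∃ k', k = k' + 1 := Nat.exists_eq_succ_of_ne_zero fun h => hu1 (by
    rwa [h, pow_zero, orderOf_eq_one_iff] at hu)
  set y := u ^ t ^ k with hy
  have hyo : orderOf y = t := by
    rw [hy, orderOf_pow_of_dvd (pow_ne_zero _ ht.out.ne_zero) (hu ▸ ⟨t, pow_succ t k⟩), hu,
      pow_succ, Nat.mul_div_cancel_left _ (pow_pos ht.out.pos _)]
  have hpw : ∀ j : ℕ, O.T (u ^ j) *ᵥ w = w := fun j => by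
    induction j with
    | zero => simp
    | succ j ih => rw [pow_succ, map_mul, ← Matrix.mulVec_mulVec, hw, ih]
  have hfix : ∀ v : Subgroup.zpowers y, ∀ z ∈ Submodule.span F {w}, O.T (v : L) *ᵥ z = z := by
    rintro ⟨v, hv⟩ z hz
    obtain ⟨c, rfl⟩ := Submodule.mem_span_singleton.1 hz
    obtain ⟨j, rfl⟩ := mem_powers_iff_mem_zpowers.2 hv
    show O.T (y ^ j) *ᵥ _ = _
    rw [Matrix.mulVec_smul, hy, ← pow_mul, hpw]
  haveI : Nontrivial (Subgroup.zpowers y) := by
    rw [Subgroup.nontrivial_iff_ne_bot, ne_eq, Subgroup.zpowers_eq_bot]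
    intro h'
    rw [h', orderOf_one] at hyo
    exact ht.out.one_lt.ne hyo
  rcases irreducible_of_order (t := t)
    (IsPGroup.of_card (n := 1) (by rw [Nat.card_zpowers, hyo, pow_one]))
    (O.T.comp (Subgroup.zpowers y).subtype) (hT.comp Subtype.val_injective) hord
    (Submodule.span F {w}) (fun v z hz => (hfix v z hz).symm ▸ hz) with hU | hU
  · exact Submodule.span_singleton_eq_bot.1 hU
  · exfalso
    have : O.T y = 1 := Matrix.ext_of_mulVec_single fun i => by
      rw [Matrix.one_mulVec]
      exact hfix ⟨y, Subgroup.mem_zpowers y⟩ _ (hU.symm ▸ Submodule.mem_top)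
    rw [← map_one O.T] at this
    rw [hT this, orderOf_one] at hyo
    exact ht.out.one_lt.ne hyo

/-- The sum of fixed classes over a cyclic group of operators of `t`-power order. -/
theorem sum_fixed_eq {u : L} {k : ℕ} (hk : 0 < k) (hu : orderOf u = t ^ k)
    (hcop : (t ^ k).Coprime (Nat.card (Subgroup.center N))) :
    letI := O.quotientAction
    (∑ᶠ v : Subgroup.zpowers u, Nat.card (MulAction.fixedBy (N ⧸ Subgroup.center N) (v : L))) =
      Fintype.card ι * t ^ k := by
  obtain ⟨k, rfl⟩ : ∃ k', k = k' + 1 := ⟨k - 1, by omega⟩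
  set y : Subgroup.zpowers u := ⟨u, Subgroup.mem_zpowers u⟩ ^ t ^ k with hy
  have hyo : orderOf y = t := by
    rw [hy, orderOf_pow_of_dvd (pow_ne_zero _ ht.out.ne_zero) (by
      rw [Subgroup.orderOf_mk, hu]; exact ⟨t, pow_succ t k⟩), Subgroup.orderOf_mk, hu,
      pow_succ, Nat.mul_div_cancel_left _ (pow_pos ht.out.pos _)]
  haveI : Nontrivial (Subgroup.zpowers y) := by
    rw [Subgroup.nontrivial_iff_ne_bot, ne_eq, Subgroup.zpowers_eq_bot]
    intro h'
    rw [h', orderOf_one] at hyo
    exact ht.out.one_lt.ne hyo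
  have hcard : Nat.card (Subgroup.zpowers u) = t ^ (k + 1) := by rw [Nat.card_zpowers, hu]
  have h1 := orbit_equation (O.comp (Subgroup.zpowers u).subtype) (hcard ▸ hcop)
    (fun a b => (IsMulCommutative.is_comm (M := Subgroup.zpowers u)).comm a b) y (fun U hU => by
      have hpow : ∀ (j : ℕ), ∀ x ∈ U, (O.comp (Subgroup.zpowers u).subtype).T (y ^ j) *ᵥ x ∈ U := by
        intro j
        induction j with
        | zero => intro x hx; simpa using hx
        | succ j ih =>
          intro x hx
          simp only [pow_succ, map_mul, ← Matrix.mulVec_mulVec]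
          exact ih _ (hU x hx)
      have hsub : ∀ v : Subgroup.zpowers y, ∀ x ∈ U,
          (O.comp (Subgroup.zpowers u).subtype).T v *ᵥ x ∈ U := by
        rintro ⟨v, hv⟩
        obtain ⟨j, rfl⟩ := mem_powers_iff_mem_zpowers.2 hv
        exact hpow j
      exact irreducible_of_order (t := t)
        (IsPGroup.of_card (n := 1) (by rw [Nat.card_zpowers, hyo, pow_one]))
        ((O.comp (Subgroup.zpowers u).subtype).T.comp (Subgroup.zpowers y).subtype)
        ((hT.comp Subtype.val_injective).comp Subtype.val_injective) hord U hsub)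
  rw [hcard] at h1
  exact h1

/-- An operator of order `t` fixes only the trivial class, and `t` is one more than the degree. -/
theorem prime_operator {r m : ℕ} (hr : r.Prime) (hn : Fintype.card ι = r ^ m) (hm : 0 < m)
    (hidx : (Subgroup.center N).index = Fintype.card ι ^ 2) (hnt : Fintype.card ι ∣ t - 1)
    (hcop : t.Coprime (Nat.card (Subgroup.center N))) {u : L} (hu : orderOf u = t) :
    letI := O.quotientAction
    t = Fintype.card ι + 1 ∧ Nat.card (MulAction.fixedBy (N ⧸ Subgroup.center N) u) = 1 := by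
  classical
  letI := O.quotientAction
  have heq := sum_fixed_eq O hT hord (u := u) one_pos (by rw [hu, pow_one]) (by rwa [pow_one])
  haveI : Fintype (Subgroup.zpowers u) := Fintype.ofFinite _
  have hall : ∀ v : Subgroup.zpowers u, v ≠ 1 →
      MulAction.fixedBy (N ⧸ Subgroup.center N) (v : L) =
        MulAction.fixedBy (N ⧸ Subgroup.center N) u := by
    intro v hv
    obtain ⟨j, hj⟩ := mem_powers_iff_mem_zpowers.2 v.2
    have hcopj : Nat.Coprime j (orderOf u) := by
      rw [hu, Nat.coprime_comm, ht.out.coprime_iff_not_dvd]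
      intro hd
      refine hv (Subtype.ext (hj.symm.trans (orderOf_dvd_iff_pow_eq_one.1 (hu ▸ hd))))
    obtain ⟨i, hi⟩ := exists_pow_eq_self_of_coprime hcopj
    change u ^ j = (v : L) at hj
    rw [← hj]
    apply Set.Subset.antisymm
    · intro w hw
      have := MulAction.fixedBy_subset_fixedBy_zpow (N ⧸ Subgroup.center N) (u ^ j) (i : ℤ) hw
      rwa [zpow_natCast, hi] at this
    · intro w hw
      have := MulAction.fixedBy_subset_fixedBy_zpow (N ⧸ Subgroup.center N) u (j : ℤ) hw
      rwa [zpow_natCast] at this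
  rw [finsum_eq_sum_of_fintype, ← Finset.add_sum_erase _ _ (Finset.mem_univ 1),
    Finset.sum_congr rfl fun v hv => congrArg (fun S : Set _ => Nat.card S)
      (hall v (Finset.ne_of_mem_erase hv)),
    Finset.sum_const, Finset.card_erase_of_mem (Finset.mem_univ _), Finset.card_univ,
    ← Nat.card_eq_fintype_card, Nat.card_zpowers, hu, smul_eq_mul, OneMemClass.coe_one,
    MulAction.fixedBy_one_eq_univ, Nat.card_congr (Equiv.Set.univ _), ← Subgroup.index, hidx,
    pow_one] at heq
  exact eq_succ_of_orbit_equation hr hn hm ht.out.one_lt hnt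
    (hidx ▸ card_fixedBy_dvd O u) heq

/-- There is no operator of order `t ^ 2`. -/
theorem not_sq_operator {r m : ℕ} (hr : r.Prime) (hn : Fintype.card ι = r ^ m) (hm : 0 < m)
    (hidx : (Subgroup.center N).index = Fintype.card ι ^ 2) (hnt : Fintype.card ι ∣ t - 1)
    (hcop : t.Coprime (Nat.card (Subgroup.center N))) {u : L} (hu : orderOf u = t ^ 2) : False := by
  classical
  letI := O.quotientAction
  have hut : orderOf (u ^ t) = t := by
    rw [orderOf_pow_of_dvd ht.out.ne_zero (hu ▸ dvd_pow_self t two_ne_zero), hu, sq,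
      Nat.mul_div_cancel _ ht.out.pos]
  have htn := (prime_operator O hT hord hr hn hm hidx hnt hcop hut).1
  have heq := sum_fixed_eq O hT hord (u := u) two_pos hu (Nat.Coprime.pow_left 2 hcop)
  haveI : Fintype (Subgroup.zpowers u) := Fintype.ofFinite _
  have hone : ∀ v : Subgroup.zpowers u, v ≠ 1 →
      Nat.card (MulAction.fixedBy (N ⧸ Subgroup.center N) (v : L)) = 1 := by
    intro v hv
    obtain ⟨k, hk⟩ := IsPGroup.iff_orderOf.1
      (IsPGroup.of_card (G := Subgroup.zpowers u) (n := 2) (by rw [Nat.card_zpowers, hu])) v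
    obtain ⟨k, rfl⟩ : ∃ k', k = k' + 1 := Nat.exists_eq_succ_of_ne_zero fun h => hv (by
      rwa [h, pow_zero, orderOf_eq_one_iff] at hk)
    rw [← Subgroup.orderOf_coe] at hk
    have hyo : orderOf ((v : L) ^ t ^ k) = t := by
      rw [orderOf_pow_of_dvd (pow_ne_zero _ ht.out.ne_zero) (hk ▸ ⟨t, pow_succ t k⟩), hk,
        pow_succ, Nat.mul_div_cancel_left _ (pow_pos ht.out.pos _)]
    have h1 := (prime_operator O hT hord hr hn hm hidx hnt hcop hyo).2
    refine le_antisymm ?_ ?_
    · rw [← h1]
      refine Nat.card_mono (Set.toFinite _) fun w hw => ?_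
      have := MulAction.fixedBy_subset_fixedBy_zpow (N ⧸ Subgroup.center N) (v : L)
        ((t ^ k : ℕ) : ℤ) hw
      rwa [zpow_natCast] at this
    · haveI : Nonempty (MulAction.fixedBy (N ⧸ Subgroup.center N) (v : L)) :=
        ⟨⟨((1 : N) : N ⧸ Subgroup.center N), by
          show ((O.act (v : L) 1 : N) : N ⧸ Subgroup.center N) = _
          rw [map_one]⟩⟩
      exact Nat.card_pos
  rw [finsum_eq_sum_of_fintype, ← Finset.add_sum_erase _ _ (Finset.mem_univ 1),
    Finset.sum_congr rfl fun v hv => hone v (Finset.ne_of_mem_erase hv), Finset.sum_const,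
    Finset.card_erase_of_mem (Finset.mem_univ _), Finset.card_univ, ← Nat.card_eq_fintype_card,
    Nat.card_zpowers, hu, smul_eq_mul, mul_one, OneMemClass.coe_one, MulAction.fixedBy_one_eq_univ,
    Nat.card_congr (Equiv.Set.univ _), ← Subgroup.index, hidx] at heq
  rw [htn] at heq
  obtain ⟨c, hc⟩ : ∃ c, (Fintype.card ι + 1) ^ 2 = c + 1 :=
    ⟨Fintype.card ι ^ 2 + 2 * Fintype.card ι, by ring⟩
  rw [hc, Nat.add_sub_cancel] at heq
  have h2 : 2 ≤ Fintype.card ι := hn ▸ (hr.two_le.trans (Nat.le_self_pow hm.ne' r))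
  nlinarith

end CfsgLib.TransitiveLinear
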