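import Cfsg.Agent.Lib.TransitiveLinear.Normal
import Cfsg.Agent.Lib.TransitiveLinear.Operators
import Cfsg.Agent.Lib.TransitiveLinear.DimTwo
import Cfsg.Agent.Lib.Zsigmondy.Basic

/-!
The soluble transitive linear groups that are not semilinear live on spaces of 9, 25, 49, 121,
529 or 81 vectors.
-/

set_option autoImplicit false
set_option linter.unusedSectionVars false
set_option linter.style.haveILetI false

open Matrix

namespace CfsgLib.TransitiveLinear

open CfsgLib.PermGroups.Regular

theorem small_cases (p : ℕ) (hp : p.Prime) (hp2 : p ≠ 2) (h : p + 1 ∣ 24) :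
    p = 3 ∨ p = 5 ∨ p = 7 ∨ p = 11 ∨ p = 23 := by
  have h1 := Nat.le_of_dvd (by norm_num) h
  have h2 : ∀ q ∈ Finset.range 24, q + 1 ∣ 24 → 3 ≤ q → q = 3 ∨ q = 5 ∨ q = 7 ∨ q = 11 ∨ q = 23 := by
    decide
  refine h2 p (Finset.mem_range.2 (by omega)) h ?_
  have := hp.two_le
  omega

theorem three_pow_gt : ∀ k : ℕ, 4 ≤ k → 4 * k + 2 < 3 ^ k + 1 := by
  intro k hk
  induction k, hk using Nat.le_induction with
  | base => norm_num
  | succ k hk ih => rw [pow_succ]; omega

theorem eq_four_of_small {p k : ℕ} (hp : 3 ≤ p) (hk : 2 ≤ k) (hk2 : ∃ m, 2 * k = 2 ^ m)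
    (h : p ^ k + 1 ≤ 2 * (2 * k + 1)) : p = 3 ∧ k = 2 := by
  have h3 : 3 ^ k ≤ p ^ k := Nat.pow_le_pow_left hp k
  rcases Nat.lt_or_ge k 4 with h4 | h4
  · obtain ⟨m, hm⟩ := hk2
    interval_cases k
    · refine ⟨?_, rfl⟩
      by_contra hne
      have : 4 ^ 2 ≤ p ^ 2 := Nat.pow_le_pow_left (by omega) 2
      omega
    · exfalso
      rcases m with - | - | - | m <;> simp [pow_succ] at hm
      omega
  · have := three_pow_gt k h4
    omega

variable {p : ℕ} [Fact p.Prime] {V : Type*} [AddCommGroup V] [Module (ZMod p) V] [Finite V]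
  [Nontrivial V] {H : Subgroup (V ≃ₗ[ZMod p] V)}
  (htr : ∀ v w : V, v ≠ 0 → w ≠ 0 → ∃ h : H, (h : V ≃ₗ[ZMod p] V) v = w)
  (hI : NoIrredCyclic H)

include htr

/-- The arithmetic of the exceptional case, for an abstract field of scalars. -/
theorem exceptional_core {K : Type*} [Field K] [Finite K] [CharP K p] [Module K V]
    {N : Subgroup H} [N.Normal] (hna : ¬ IsMulCommutative N) {r : ℕ} (hr : r.Prime) (hrp : r ≠ p)
    (hrN : IsPGroup r N)
    (hclass : ∀ x ∈ N, ∀ y ∈ N, ∀ z ∈ N, z * (x * y * x⁻¹ * y⁻¹) = (x * y * x⁻¹ * y⁻¹) * z)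
    (f : ℕ) (hK : Nat.card K = p ^ f) (hf0 : 0 < f) (L : Subgroup H) (hNL : N ≤ L)
    (lin : L →* Module.End K V) (hlinv : ∀ g v, lin g v = endHom H g v)
    (hlift : ∀ t : ℕ, t.Prime → f < t → ∀ g : H, (∃ k, orderOf g = t ^ k) → g ∈ L)
    (hLtop : f = 1 → L = ⊤)
    (hscal : ∀ z ∈ Subgroup.center N, ∃ c : K, lin (Subgroup.inclusion hNL z) = c • 1)
    (hschur : ∀ Y : Module.End K V,
      (∀ x : N, lin (Subgroup.inclusion hNL x) * Y = Y * lin (Subgroup.inclusion hNL x)) →
        ∃ c : K, Y = c • 1)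
    (hcent : Nat.card (Subgroup.centralizer (N : Set H)) ∣ Nat.card K - 1) :
    Nat.card V = 9 ∨ Nat.card V = 25 ∨ Nat.card V = 49 ∨ Nat.card V = 121 ∨ Nat.card V = 529 ∨
      Nat.card V = 81 := by
  classical
  haveI : Fact r.Prime := ⟨hr⟩
  haveI : Module.Finite K V := Module.Finite.of_finite
  set n := Module.finrank K V with hn
  have hn0 : 0 < n := Module.finrank_pos
  haveI : Nonempty (Fin n) := ⟨⟨0, hn0⟩⟩
  have hV : Nat.card V = (p ^ f) ^ n := by
    rw [Module.natCard_eq_pow_finrank (K := K) (V := V), hK]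
  have hp1 := (Fact.out : p.Prime).one_lt
  have hq1 : 1 < p ^ f := Nat.one_lt_pow hf0.ne' hp1
  let b := Module.finBasis K V
  let T : L →* Matrix (Fin n) (Fin n) K :=
    (LinearMap.toMatrixAlgEquiv b).toMulEquiv.toMonoidHom.comp lin
  have hlin : Function.Injective lin := fun x y h => Subtype.ext (endHom_injective H
    (LinearMap.ext fun v => by rw [← hlinv, ← hlinv, h]))
  have hT : Function.Injective T := (LinearMap.toMatrixAlgEquiv b).injective.comp hlin
  let R : ClassTwoRep K (Fin n) N :=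
    { rho := T.comp (Subgroup.inclusion hNL)
      class_two := fun x y => Subgroup.mem_center_iff.2 fun z =>
        Subtype.ext (hclass x x.2 y y.2 z z.2)
      inj := hT.comp (Subgroup.inclusion_injective hNL)
      scalar := fun z hz => by
        obtain ⟨c, hc⟩ := hscal z hz
        refine ⟨c, ?_⟩
        change LinearMap.toMatrixAlgEquiv b (lin (Subgroup.inclusion hNL z)) = _
        rw [hc, map_smul, map_one]
      schur := fun X hX => by
        obtain ⟨c, hc⟩ := hschur ((LinearMap.toMatrixAlgEquiv b).symm X) fun x => by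
          apply (LinearMap.toMatrixAlgEquiv b).injective
          rw [map_mul, map_mul, AlgEquiv.apply_symm_apply]
          exact hX x
        refine ⟨c, ?_⟩
        rw [← AlgEquiv.apply_symm_apply (LinearMap.toMatrixAlgEquiv b) X, hc, map_smul, map_one]
      index_ne := by
        obtain ⟨j, hj⟩ := IsPGroup.iff_card.1 (hrN.to_quotient (Subgroup.center N))
        rw [Subgroup.index, hj, Nat.cast_pow]
        refine pow_ne_zero _ fun h => hrp ?_
        rw [CharP.cast_eq_zero_iff K p] at h
        exact ((Nat.prime_dvd_prime_iff_eq Fact.out hr).1 h).symm }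
  haveI : Fintype (N ⧸ Subgroup.center N) := Fintype.ofFinite _
  have hsq : n ^ 2 = (Subgroup.center N).index := by
    have := R.sq_card_eq_index (s := Quotient.out) QuotientGroup.out_eq'
    rwa [Fintype.card_fin] at this
  obtain ⟨e, he⟩ : ∃ e, (Subgroup.center N).index = r ^ e :=
    IsPGroup.iff_card.1 (hrN.to_quotient (Subgroup.center N))
  obtain ⟨m, -, hm⟩ : ∃ m, m ≤ e ∧ n = r ^ m :=
    (Nat.dvd_prime_pow hr).1 (he ▸ hsq ▸ dvd_pow_self n two_ne_zero)
  have hm0 : 0 < m := by
    by_contra h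
    have hidx : (Subgroup.center N).index = 1 := by
      rw [← hsq, hm, show m = 0 by omega]; norm_num
    refine hna (IsMulCommutative.of_comm fun x y => ?_)
    exact (Subgroup.mem_center_iff.1 (Subgroup.index_eq_one.1 hidx ▸ Subgroup.mem_top y) x)
  have hn2 : 2 ≤ n := hm ▸ (hr.two_le.trans (Nat.le_self_pow hm0.ne' r))
  obtain ⟨jz, hjz⟩ : ∃ j, Nat.card (Subgroup.center N) = r ^ j :=
    IsPGroup.iff_card.1 (hrN.to_subgroup _)
  -- operators
  let act : L →* MulAut N := MulAut.conjNormal.comp L.subtype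
  have hconj : ∀ (u : L) (x : N), T u * R.rho x * T u⁻¹ = R.rho (act u x) := by
    intro u x
    show T u * T (Subgroup.inclusion hNL x) * T u⁻¹ = T (Subgroup.inclusion hNL (act u x))
    rw [← map_mul, ← map_mul]
    congr 1
  have hVdvd : (p ^ f) ^ n - 1 ∣ Nat.card H := hV ▸ sub_one_dvd_card htr
  -- an element of prime order `t`
  have main : ∀ t : ℕ, t.Prime → f < t → orderOf ((p ^ f : ℕ) : ZMod t) = n →
      t = n + 1 ∧ ¬ t ^ 2 ∣ Nat.card H := by
    intro t ht hft hord
    haveI : Fact t.Prime := ⟨ht⟩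
    have hdvd : t ∣ Nat.card H := by
      refine ((Zsigmondy.dvd_pow_sub_one_iff hq1 n t).2 ?_).trans hVdvd
      rw [hord]
    have hordK : orderOf (Nat.card K : ZMod t) = Fintype.card (Fin n) := by
      rw [hK, hord, Fintype.card_fin]
    have hnt : n ∣ t - 1 := by
      have h0 : ((p ^ f : ℕ) : ZMod t) ≠ 0 := by
        intro h
        rw [h, orderOf_eq_zero_iff'.2 (fun j hj => by rw [zero_pow hj.ne']; exact zero_ne_one)] at hord
        omega
      have := ZMod.orderOf_dvd_card_sub_one (p := t) h0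
      rwa [hord] at this
    have htr' : t ≠ r := by
      intro h
      subst h
      have h1 : t ∣ t - 1 := (hm ▸ dvd_pow_self t hm0.ne').trans hnt
      have := Nat.le_of_dvd (by have := ht.two_le; omega) h1
      have := ht.two_le
      omega
    have hcop : t.Coprime (Nat.card (Subgroup.center N)) := by
      rw [hjz]; exact Nat.Coprime.pow_right _ ((Nat.coprime_primes ht hr).2 htr')
    have hnc : Fintype.card (Fin n) = r ^ m := by rw [Fintype.card_fin]; exact hm
    have hidx : (Subgroup.center N).index = Fintype.card (Fin n) ^ 2 := by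
      rw [Fintype.card_fin]; exact hsq.symm
    have hnt' : Fintype.card (Fin n) ∣ t - 1 := by rwa [Fintype.card_fin]
    let O : Operators R L := { T := T, act := act, conj := hconj }
    obtain ⟨g, hg⟩ := exists_prime_orderOf_dvd_card' t hdvd
    have hgL : g ∈ L := hlift t ht hft g ⟨1, by rw [hg, pow_one]⟩
    have htn := (prime_operator O hT hordK hr hnc hm0 hidx hnt' hcop
      (u := ⟨g, hgL⟩) (by rw [Subgroup.orderOf_mk, hg])).1
    rw [Fintype.card_fin] at htn
    refine ⟨htn, fun hd2 => ?_⟩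
    obtain ⟨P, hP⟩ := Sylow.exists_subgroup_card_pow_prime t hd2
    have hPt : IsPGroup t P := IsPGroup.of_card hP
    have hPL : P ≤ L := fun x hx => hlift t ht hft x (by
      obtain ⟨k, hk⟩ := IsPGroup.iff_orderOf.1 hPt ⟨x, hx⟩
      exact ⟨k, (Subgroup.orderOf_mk x hx).symm.trans hk⟩)
    let ρP : P →* Module.End K V := lin.comp (Subgroup.inclusion hPL)
    have hfpf : ∀ x : P, x ≠ 1 → ∀ v : V, ρP x v = v → v = 0 := by
      intro x hx v hv
      obtain ⟨k, hk⟩ := IsPGroup.iff_orderOf.1 hPt x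
      have h1 : orderOf (Subgroup.inclusion hPL x) = t ^ k := by
        rw [orderOf_injective _ (Subgroup.inclusion_injective hPL), hk]
      have h2 := fpf_of_prime_power O hT hordK
        (u := Subgroup.inclusion hPL x) (fun h => hx (Subgroup.inclusion_injective hPL (h.trans (map_one _).symm)))
        h1 (w := ⇑(b.repr v))
        ((LinearMap.toMatrix_mulVec_repr b b (lin (Subgroup.inclusion hPL x)) v).trans
          (by rw [show lin (Subgroup.inclusion hPL x) v = v from hv]))
      exact b.repr.map_eq_zero_iff.1 (DFunLike.coe_injective h2)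
    have hcardP : ((Nat.card P : ℕ) : K) ≠ 0 := by
      rw [hP, Nat.cast_pow]
      refine pow_ne_zero _ fun h => ?_
      rw [CharP.cast_eq_zero_iff K p, Nat.prime_dvd_prime_iff_eq Fact.out ht] at h
      subst h
      have := (Zsigmondy.not_dvd_of_dvd_pow_sub_one hq1 ht (k := n) (by omega)
        ((Zsigmondy.dvd_pow_sub_one_iff hq1 n p).2 (by rw [hord])))
      exact this (dvd_pow_self p hf0.ne')
    have hcyc : IsCyclic (⊤ : Subgroup P) := by
      rcases PermGroups.fpf_isCyclic_or_quaternion ρP hfpf hcardP (⊤ : Subgroup P)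
        (hPt.to_subgroup _) with h | ⟨h2, -⟩
      · exact h
      · exfalso
        subst h2
        omega
    haveI : IsCyclic P :=
      isCyclic_of_surjective (Subgroup.topEquiv : (⊤ : Subgroup P) ≃* P).toMonoidHom
        Subgroup.topEquiv.surjective
    obtain ⟨x, hx⟩ := IsCyclic.exists_ofOrder_eq_natCard (α := P)
    exact not_sq_operator O hT hordK hr hnc hm0 hidx hnt' hcop
      (u := Subgroup.inclusion hPL x)
      (by rw [orderOf_injective _ (Subgroup.inclusion_injective hPL), hx, hP])
  -- numerical conclusion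
  have hp2' : r = 2 → 3 ≤ p := fun h2 => by
    rcases (Fact.out : p.Prime).eq_two_or_odd with h | h
    · exact absurd (h.trans h2.symm) (Ne.symm hrp)
    · have := (Fact.out : p.Prime).two_le; omega
  have hd : 1 < f * n := by nlinarith
  have hf1 : f = 1 ∧ (r = 2 ∨ False) := by
    by_cases hex : p = 2 ∧ f * n = 6
    · exfalso
      obtain ⟨rfl, h6⟩ := hex
      have hr3 : r ≠ 2 := hrp
      have h3 : n = 3 := by
        have hn' : n ∣ 6 := ⟨f, by rw [← h6, mul_comm]⟩
        have hrn : r ∣ 6 := (hm ▸ dvd_pow_self r hm0.ne').trans hn'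
        have hr6 : r = 3 := by
          rcases (Nat.Prime.dvd_mul hr).1 (show r ∣ 2 * 3 from hrn) with h | h
          · exact absurd ((Nat.prime_dvd_prime_iff_eq hr Nat.prime_two).1 h) hr3
          · exact (Nat.prime_dvd_prime_iff_eq hr Nat.prime_three).1 h
        subst hr6
        have hn6 : n ≤ 6 := Nat.le_of_dvd (by norm_num) hn'
        rcases Nat.lt_or_ge m 2 with h | h
        · rw [hm, show m = 1 by omega, pow_one]
        · have : 3 ^ 2 ≤ 3 ^ m := Nat.pow_le_pow_right (by norm_num) h
          omega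
      have hf2 : f = 2 := by rw [h3] at h6; omega
      have h7 := (main 7 (by norm_num) (by omega) (by
        rw [hf2, h3]
        exact (orderOf_eq_iff (by norm_num)).2 ⟨by decide, fun m hm hm0 => by
          interval_cases m <;> decide⟩)).1
      omega
    by_cases h2 : f * n = 2
    · have hfe : f = 1 := by nlinarith
      subst hfe
      have hne : n = 2 := by omega
      refine ⟨rfl, Or.inl ?_⟩
      exact (Nat.prime_dvd_prime_iff_eq hr Nat.prime_two).1 (hne ▸ hm ▸ dvd_pow_self r hm0.ne')
    obtain ⟨t, ht⟩ := Zsigmondy.exists_isPpd hp1 hd hex (fun h => h2 h.1)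
    have hto := (Zsigmondy.isPpd_iff_orderOf hp1 (by omega) ht.1).1 ht
    have hlt := ht.lt hp1 (by omega)
    have hord : orderOf ((p ^ f : ℕ) : ZMod t) = n := by
      rw [Nat.cast_pow, orderOf_pow_of_dvd hf0.ne' (hto ▸ dvd_mul_right f n), hto,
        Nat.mul_div_cancel_left n hf0]
    obtain ⟨htn, -⟩ := main t ht.1 (by nlinarith) hord
    refine ⟨by nlinarith, Or.inl ?_⟩
    by_contra hr2
    have ho : Odd n := hm ▸ (hr.odd_of_ne_two hr2).pow
    rcases ht.1.eq_two_or_odd' with h | h
    · omega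
    · rw [htn, Nat.odd_add_one] at h
      exact h ho
  obtain ⟨hf1, hr2 | h⟩ := hf1
  swap
  · exact h.elim
  have hp3 := hp2' hr2
  rw [hr2] at hm
  rw [hf1, pow_one] at hV hVdvd hq1
  obtain ⟨k, hk⟩ : ∃ k, n = 2 * k := by
    obtain ⟨m', rfl⟩ : ∃ m', m = m' + 1 := ⟨m - 1, by omega⟩
    exact ⟨2 ^ m', by rw [hm, pow_succ']⟩
  rcases Nat.lt_or_ge k 2 with hk1 | hk2
  · -- dimension two
    have hn22 : n = 2 := by omega
    let O : Operators R L := { T := T, act := act, conj := hconj }
    have hker : O.act.ker.map L.subtype ≤ Subgroup.centralizer (N : Set H) := by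
      rintro _ ⟨u, hu, rfl⟩ z hz
      have h2 := congrArg Subtype.val (MulEquiv.congr_fun (MonoidHom.mem_ker.1 hu) ⟨z, hz⟩)
      simp only [O, act, MonoidHom.comp_apply, MulAut.conjNormal_apply, MulAut.one_apply] at h2
      exact (mul_inv_eq_iff_eq_mul.1 h2).symm
    have hHdvd : Nat.card H ∣ 24 * (p - 1) := by
      have h1 := card_dvd_of_index_four O (by rw [← hsq, hn22]; rfl) hna
      have hLH : Nat.card L = Nat.card H := by rw [hLtop hf1]; exact Subgroup.card_top
      rw [hLH] at h1
      refine h1.trans (Nat.mul_dvd_mul_left 24 ?_)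
      rw [← Subgroup.card_map_of_injective L.subtype_injective]
      refine (Subgroup.card_dvd_of_le hker).trans ?_
      rwa [hK, hf1, pow_one] at hcent
    rw [hn22] at hVdvd hV
    have h24 : p + 1 ∣ 24 := by
      have h1 := hVdvd.trans hHdvd
      rw [show p ^ 2 - 1 = (p + 1) * (p - 1) from Nat.sq_sub_sq p 1] at h1
      exact Nat.dvd_of_mul_dvd_mul_right (by omega) h1
    rcases small_cases p Fact.out (by omega) h24 with h | h | h | h | h <;> rw [hV, h] <;> norm_num
  · -- larger dimensions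
    have hpk1 : 1 ≤ p ^ k := Nat.one_le_pow _ _ (by omega)
    have hdiv : p ^ k + 1 ∣ Nat.card H := by
      refine (Dvd.intro_left (p ^ k - 1) ?_).trans hVdvd
      rw [hk, pow_mul', ← one_pow 2, Nat.sq_sub_sq, one_pow, mul_comm]
    have hprime : ∀ l : ℕ, l.Prime → l ≠ 2 → l ∣ p ^ k + 1 →
        l = n + 1 ∧ ¬ l ^ 2 ∣ p ^ k + 1 := by
      intro l hl hl2 hld
      haveI : Fact l.Prime := ⟨hl⟩
      have h1 : (p : ZMod l) ^ k = -1 := by
        rw [eq_neg_iff_add_eq_zero]
        exact_mod_cast (ZMod.natCast_eq_zero_iff _ _).2 hld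
      have hne : (p : ZMod l) ^ k ≠ 1 := by
        rw [h1]
        intro h
        have : ((2 : ℕ) : ZMod l) = 0 := by push_cast; linear_combination -h
        exact hl2 ((Nat.prime_dvd_prime_iff_eq hl Nat.prime_two).1 ((ZMod.natCast_eq_zero_iff _ _).1 this))
      obtain ⟨a, ha⟩ : ∃ a, k = 2 ^ a := by
        obtain ⟨a, -, ha⟩ := (Nat.dvd_prime_pow Nat.prime_two).1 (hm ▸ hk ▸ dvd_mul_left k 2)
        exact ⟨a, ha⟩
      have hord : orderOf (p : ZMod l) = n := by
        rw [hk, ha, ← pow_succ']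
        refine orderOf_eq_prime_pow (by rw [← ha]; exact hne) ?_
        rw [pow_succ, ← ha, pow_mul, h1, neg_one_sq]
      have hlf : f < l := by rw [hf1]; exact hl.one_lt
      obtain ⟨h2, h3⟩ := main l hl hlf (by rw [hf1, pow_one]; exact hord)
      exact ⟨h2, fun h => h3 (h.trans hdiv)⟩
    have hbound : p ^ k + 1 ≤ 2 * (n + 1) := by
      have h2 : 2 ∣ p ^ k + 1 := by
        have : Odd (p ^ k) := ((Fact.out : p.Prime).odd_of_ne_two (by omega)).pow
        exact even_iff_two_dvd.1 this.add_one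
      have h4 : ¬ 4 ∣ p ^ k + 1 := by
        obtain ⟨k', rfl⟩ : ∃ k', k = 2 * k' := by
          obtain ⟨a, -, ha⟩ := (Nat.dvd_prime_pow Nat.prime_two).1 (hm ▸ hk ▸ dvd_mul_left k 2)
          rcases a with - | a
          · rw [pow_zero] at ha; omega
          · exact ⟨2 ^ a, by rw [ha, pow_succ']⟩
        intro h
        obtain ⟨c, hc⟩ : Odd (p ^ k') := ((Fact.out : p.Prime).odd_of_ne_two (by omega)).pow
        rw [pow_mul', hc] at h
        have e : (2 * c + 1) ^ 2 + 1 = 4 * (c * c + c) + 2 := by ring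
        omega
      obtain ⟨M, hM⟩ := h2
      have hMle : M ≤ n + 1 := by
        rcases Nat.lt_or_ge M 2 with h | h
        · omega
        obtain ⟨l, hl, hlM⟩ := Nat.exists_prime_and_dvd (show M ≠ 1 by omega)
        have hM2 : ¬ 2 ∣ M := fun h => h4 (by rw [hM]; exact Nat.mul_dvd_mul_left 2 h)
        have hl2 : l ≠ 2 := fun h => hM2 (h ▸ hlM)
        obtain ⟨hln, hsq'⟩ := hprime l hl hl2 (hM ▸ dvd_mul_of_dvd_right hlM 2)
        obtain ⟨c, rfl⟩ := hlM
        rcases Nat.lt_or_ge c 2 with hc | hc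
        · interval_cases c <;> omega
        · exfalso
          obtain ⟨l', hl', hlc⟩ := Nat.exists_prime_and_dvd (show c ≠ 1 by omega)
          have hl2' : l' ≠ 2 := fun h => hM2 (h ▸ dvd_mul_of_dvd_right hlc l)
          obtain ⟨hln', -⟩ := hprime l' hl' hl2'
            (hM ▸ dvd_mul_of_dvd_right (dvd_mul_of_dvd_right hlc l) 2)
          refine hsq' (hM ▸ dvd_mul_of_dvd_right ?_ 2)
          rw [sq]
          exact Nat.mul_dvd_mul_left l (hln ▸ hln' ▸ hlc)
      omega
    obtain ⟨hp, hk4⟩ := eq_four_of_small (p := p) (k := k) hp3 hk2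
      ⟨m, by rw [← hk, hm]⟩ (by omega)
    rw [hV, hk, hk4, hp]
    norm_num

/-- The number of vectors of a soluble transitive linear group without irreducible cyclic normal
subgroup. -/
theorem exceptional_card (hI : NoIrredCyclic H) (hsolv : Group.IsSolvable H) :
    Nat.card V = 9 ∨ Nat.card V = 25 ∨ Nat.card V = 49 ∨ Nat.card V = 121 ∨ Nat.card V = 529 ∨
      Nat.card V = 81 := by
  classical
  obtain ⟨N, hN, hna, hirr, ⟨r, hr, hrp, hrN⟩, hclass⟩ := exists_class_two_normal htr hI hsolv
  haveI := hN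
  haveI : Finite (Module.End (ZMod p) V) :=
    Finite.of_injective (fun g : Module.End (ZMod p) V => (g : V → V)) DFunLike.coe_injective
  have hS := isInj_commutant hirr
  have hinv : ∀ (g : H), ∀ a ∈ commutant N, endHom H g * a * endHom H g⁻¹ ∈ commutant N := by
    intro g a ha
    refine Subalgebra.mem_centralizer_iff (R := ZMod p) |>.2 ?_
    rintro _ ⟨x, hx, rfl⟩
    have h1 := (Subalgebra.mem_centralizer_iff (R := ZMod p)).1 ha _
      ⟨g⁻¹ * x * g, by simpa using hN.conj_mem x hx g⁻¹, rfl⟩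
    calc endHom H x * (endHom H g * a * endHom H g⁻¹)
        = endHom H g * (endHom H (g⁻¹ * x * g) * a) * endHom H g⁻¹ := by
          simp only [← mul_assoc, ← map_mul, mul_inv_cancel, one_mul]
      _ = endHom H g * a * endHom H g⁻¹ * endHom H x := by
          rw [h1]
          simp only [mul_assoc, ← map_mul, mul_inv_cancel, mul_one]
  obtain ⟨ψ, hψfin, hψcard, hψ⟩ := exists_conj_field hS hinv
  haveI := hψfin
  have hcard : Nat.card (commutant N) = p ^ Module.finrank (ZMod p) (commutant N) :=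
    natCard_eq_pow _
  have hcyc := (hS.isCyclic_and_card_dvd (K := Subgroup.centralizer (N : Set H))
    fun a ha => commute_of_mem_commutant.2 ha).2
  letI : Field (commutant N) := hS.isField.toField
  let emb : commutant N →+* Module.End (ZMod p) V :=
    { toFun := Subtype.val
      map_one' := rfl
      map_mul' := fun _ _ => rfl
      map_zero' := rfl
      map_add' := fun _ _ => rfl }
  letI iM : Module (commutant N) V := Module.compHom V emb
  have hsmul : ∀ (k : commutant N) (v : V), k • v = (k : Module.End (ZMod p) V) v := fun _ _ => rfl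
  haveI : CharP (commutant N) p := by
    refine charP_of_injective_algebraMap (R := ZMod p) (A := commutant N) ?_ p
    exact (algebraMap (ZMod p) (commutant N)).injective
  have hf0 : 0 < Module.finrank (ZMod p) (commutant N) := Module.finrank_pos
  have hNL : N ≤ ψ.ker := fun x hx => MonoidHom.mem_ker.2 ((hψ x).2 fun a ha =>
    (Subalgebra.mem_centralizer_iff (R := ZMod p)).1 ha _ ⟨x, hx, rfl⟩)
  refine exceptional_core htr (K := commutant N) hna hr hrp hrN hclass
    (Module.finrank (ZMod p) (commutant N)) hcard hf0 ψ.ker hNL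
    { toFun := fun g =>
        { toFun := endHom H g
          map_add' := map_add _
          map_smul' := fun k v => LinearMap.congr_fun ((hψ g).1 (MonoidHom.mem_ker.1 g.2) k k.2) v }
      map_one' := LinearMap.ext fun v => rfl
      map_mul' := fun a c => LinearMap.ext fun v => rfl }
    (fun g v => rfl) ?_ ?_ ?_ ?_ hcyc
  · intro t ht hft g ⟨k, hk⟩
    rw [MonoidHom.mem_ker, ← orderOf_eq_one_iff]
    obtain ⟨i, -, hi⟩ := (Nat.dvd_prime_pow ht).1 (hk ▸ orderOf_map_dvd ψ g)
    rcases Nat.eq_zero_or_pos i with rfl | hi0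
    · rw [hi, pow_zero]
    · exfalso
      have h1 : t ≤ orderOf (ψ g) := hi ▸ Nat.le_self_pow hi0.ne' t
      have h2 := Nat.le_of_dvd Nat.card_pos (orderOf_dvd_natCard (ψ g))
      omega
  · intro hf1
    rw [eq_top_iff]
    intro g _
    rw [MonoidHom.mem_ker]
    haveI : Subsingleton (commutant N ≃ₐ[ZMod p] commutant N) := by
      rw [← Finite.card_le_one_iff_subsingleton]
      exact hψcard.trans hf1.le
    exact Subsingleton.elim _ _
  · intro z hz
    have hzc : endHom H (z : H) ∈ commutant N := commute_of_mem_commutant.2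
      (Subgroup.mem_centralizer_iff.2 fun x hx =>
        congrArg Subtype.val (Subgroup.mem_center_iff.1 hz ⟨x, hx⟩))
    exact ⟨⟨_, hzc⟩, LinearMap.ext fun v => rfl⟩
  · intro Y hY
    have hlinc : ∀ (c : ZMod p) (v : V), Y (c • v) = c • Y v := fun c v =>
      ZMod.map_smul Y c v
    let Y' : Module.End (ZMod p) V :=
      { toFun := Y, map_add' := map_add Y, map_smul' := hlinc }
    have hYc : Y' ∈ commutant N := by
      refine Subalgebra.mem_centralizer_iff (R := ZMod p) |>.2 ?_
      rintro _ ⟨x, hx, rfl⟩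
      exact LinearMap.ext fun v => LinearMap.congr_fun (hY ⟨x, hx⟩) v
    exact ⟨⟨_, hYc⟩, LinearMap.ext fun v => rfl⟩

end CfsgLib.TransitiveLinear
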