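import Cfsg.Agent.Lib.TransitiveLinear.Basic
import Cfsg.Agent.Lib.PermGroups.RegularExceptional

/-!
Transitive linear groups without irreducible cyclic normal subgroups contain an irreducible
non-abelian normal subgroup of prime power order and class two.
-/

set_option autoImplicit false
set_option linter.unusedSectionVars false
set_option linter.style.haveILetI false

namespace CfsgLib.TransitiveLinear

open CfsgLib.PermGroups.Regular

variable {p : ℕ} [Fact p.Prime] {V : Type*} [AddCommGroup V] [Module (ZMod p) V] [Finite V]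
  [Nontrivial V] {H : Subgroup (V ≃ₗ[ZMod p] V)}

/-- The conjugation action on an invariant field of endomorphisms. -/
theorem exists_conj_field {S : Subalgebra (ZMod p) (Module.End (ZMod p) V)} (hS : IsInj S)
    (hinv : ∀ (g : H), ∀ r ∈ S, endHom H g * r * endHom H g⁻¹ ∈ S) :
    ∃ ψ : H →* (S ≃ₐ[ZMod p] S), Finite (S ≃ₐ[ZMod p] S) ∧
      Nat.card (S ≃ₐ[ZMod p] S) ≤ Module.finrank (ZMod p) S ∧
      ∀ g, ψ g = 1 ↔ ∀ r ∈ S, endHom H g * r = r * endHom H g := by
  haveI : Finite (Module.End (ZMod p) V) :=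
    Finite.of_injective (fun f : Module.End (ZMod p) V => (f : V → V)) DFunLike.coe_injective
  have hgg : ∀ g : H, endHom H g * endHom H g⁻¹ = 1 := fun g => by
    rw [← map_mul, mul_inv_cancel, map_one]
  have hgg' : ∀ g : H, endHom H g⁻¹ * endHom H g = 1 := fun g => by
    rw [← map_mul, inv_mul_cancel, map_one]
  let c : H → (S ≃ₐ[ZMod p] S) := fun g =>
    { toFun := fun r => ⟨endHom H g * r * endHom H g⁻¹, hinv g r r.2⟩
      invFun := fun r => ⟨endHom H g⁻¹ * r * endHom H g, by simpa using hinv g⁻¹ r r.2⟩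
      left_inv := fun r => Subtype.ext (by
        show endHom H g⁻¹ * (endHom H g * (r : Module.End (ZMod p) V) * endHom H g⁻¹) * endHom H g = r
        simp only [mul_assoc, hgg', mul_one, ← mul_assoc (endHom H g⁻¹) (endHom H g), one_mul])
      right_inv := fun r => Subtype.ext (by
        show endHom H g * (endHom H g⁻¹ * (r : Module.End (ZMod p) V) * endHom H g) * endHom H g⁻¹ = r
        simp only [mul_assoc, hgg, mul_one, ← mul_assoc (endHom H g) (endHom H g⁻¹), one_mul])
      map_mul' := fun a b => Subtype.ext (by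
        show endHom H g * (a.1 * b.1) * endHom H g⁻¹ =
          (endHom H g * a.1 * endHom H g⁻¹) * (endHom H g * b.1 * endHom H g⁻¹)
        simp only [mul_assoc]
        rw [← mul_assoc (endHom H g⁻¹) (endHom H g), hgg', one_mul])
      map_add' := fun a b => Subtype.ext (by
        show endHom H g * (a.1 + b.1) * endHom H g⁻¹ = _
        rw [mul_add, add_mul]; rfl)
      commutes' := fun r => Subtype.ext (by
        show endHom H g * algebraMap (ZMod p) _ r * endHom H g⁻¹ = algebraMap (ZMod p) _ r
        rw [← Algebra.commutes, mul_assoc, hgg, mul_one]) }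
  let ψ : H →* (S ≃ₐ[ZMod p] S) := MonoidHom.mk' c fun g h => AlgEquiv.ext fun r =>
    Subtype.ext (by
      show endHom H (g * h) * r.1 * endHom H (g * h)⁻¹ =
        endHom H g * (endHom H h * r.1 * endHom H h⁻¹) * endHom H g⁻¹
      rw [mul_inv_rev, map_mul, map_mul]; simp only [mul_assoc])
  letI : Field S := hS.isField.toField
  letI : Algebra (ZMod p) S := inferInstance
  refine ⟨ψ, inferInstance, ?_, fun g => ?_⟩
  · rw [Nat.card_eq_fintype_card]
    exact AlgEquiv.card_le
  constructor
  · intro hg r hr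
    have h1 : endHom H g * r * endHom H g⁻¹ = r :=
      congrArg Subtype.val (AlgEquiv.congr_fun hg ⟨r, hr⟩)
    calc endHom H g * r = endHom H g * r * endHom H g⁻¹ * endHom H g := by
          rw [mul_assoc _ (endHom H g⁻¹), hgg', mul_one]
      _ = _ := by rw [h1]
  · intro hg
    refine AlgEquiv.ext fun r => Subtype.ext ?_
    show endHom H g * r.1 * endHom H g⁻¹ = r.1
    rw [hg r r.2, mul_assoc, hgg, mul_one]

variable (htr : ∀ v w : V, v ≠ 0 → w ≠ 0 → ∃ h : H, (h : V ≃ₗ[ZMod p] V) v = w)
  (hI : NoIrredCyclic H)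

include htr hI

theorem transitive_centralizer_nonabelian {A : Subgroup H} (hA : A.Normal) (hc : IsMulCommutative A)
    (hmax : ∀ B : Subgroup H, B.Normal → IsMulCommutative B → A ≤ B → B = A) :
    ¬ IsMulCommutative (Subgroup.centralizer (A : Set H)) := by
  haveI := hA
  haveI : Module.Finite (ZMod p) V := Module.Finite.of_finite
  haveI : Finite (Module.End (ZMod p) V) :=
    Finite.of_injective (fun f : Module.End (ZMod p) V => (f : V → V)) DFunLike.coe_injective
  intro hC
  have hle : A ≤ Subgroup.centralizer (A : Set H) := fun a ha => Subgroup.mem_centralizer_iff.2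
    fun b hb => congrArg Subtype.val (hc.is_comm.comm (⟨b, hb⟩ : A) ⟨a, ha⟩)
  have heq : Subgroup.centralizer (A : Set H) = A := hmax _ inferInstance hC hle
  have hS := transitive_isInj_of_abelian htr hA hc
  obtain ⟨hcyc, hdvd⟩ := hS.isCyclic_and_card_dvd (fun a ha => mem_alg (M := A) ha)
  rw [natCard_eq_pow] at hdvd
  obtain ⟨ψ, hfin, hcardψ, hψ⟩ := exists_conj_field hS fun g r hr => conj_mem_alg hA g hr
  have hker : ψ.ker ≤ A := fun g hg => heq.le <| by
    rw [Subgroup.mem_centralizer_iff]
    intro a ha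
    exact (endHom_injective H (by
      rw [map_mul, map_mul, (hψ g).1 (MonoidHom.mem_ker.1 hg) _ (mem_alg ha)])).symm
  set k := Module.finrank (ZMod p) (alg A) with hk
  set n := Module.finrank (ZMod p) V with hn
  have hk0 : 0 < k := by
    haveI := hS.isField.nontrivial
    exact Module.finrank_pos
  obtain ⟨W, hW0, hW1, hW⟩ := hI A hA hcyc
  have h2k : 2 * k ≤ n := by
    obtain ⟨v, hvW, hv⟩ := Submodule.exists_mem_ne_zero_of_ne_bot hW0
    obtain ⟨u, -, hu⟩ := SetLike.exists_of_lt (lt_top_iff_ne_top.2 hW1)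
    have hu' : u ∉ orb (alg A) v := fun h => hu (orb_le_of_invUnder hW hvW h)
    have hu0 : u ≠ 0 := fun h => hu (h ▸ Submodule.zero_mem _)
    have hinf : orb (alg A) v ⊓ orb (alg A) u = ⊥ := by
      rw [Submodule.eq_bot_iff]
      rintro x ⟨h1, h2⟩
      by_contra hx
      exact hu' (orb_le h1 (transitive_orb_symm htr hA h2 hx))
    have h1 := Submodule.finrank_sup_add_finrank_inf_eq (orb (alg A) v) (orb (alg A) u)
    rw [hinf, finrank_bot, finrank_orb hS hv, finrank_orb hS hu0] at h1
    have := Submodule.finrank_le (orb (alg A) v ⊔ orb (alg A) u)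
    omega
  have hH : p ^ n - 1 ≤ Nat.card H := by
    have := Nat.le_of_dvd Nat.card_pos (sub_one_dvd_card htr)
    rwa [Module.natCard_eq_pow_finrank (K := ZMod p) (V := V), Nat.card_zmod] at this
  have h1 : Nat.card H ≤ k * Nat.card A := by
    have := Subgroup.card_mul_index ψ.ker
    rw [Subgroup.index_ker] at this
    rw [← this, mul_comm k]
    exact Nat.mul_le_mul (Subgroup.card_le_of_le hker)
      ((Nat.card_le_card_of_injective _ Subtype.coe_injective).trans hcardψ)
  have hpk : 1 < p ^ k := Nat.one_lt_pow hk0.ne' (Fact.out : p.Prime).one_lt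
  have h2 : Nat.card A ≤ p ^ k - 1 := Nat.le_of_dvd (by omega) hdvd
  have h3 : p ^ (2 * k) ≤ p ^ n := Nat.pow_le_pow_right (Fact.out : p.Prime).pos h2k
  have h4 : k < p ^ k := Nat.lt_pow_self (Fact.out : p.Prime).one_lt
  have h5 := (hH.trans h1).trans (Nat.mul_le_mul_left k h2)
  rw [two_mul, pow_add] at h3
  obtain ⟨x, hx⟩ : ∃ x, p ^ k = x + 1 := ⟨p ^ k - 1, by omega⟩
  rw [hx] at h3 h4 h5
  simp only [Nat.add_sub_cancel] at h5
  have : (k + 1) * x ≤ (x + 1) * x := Nat.mul_le_mul_right _ (by omega)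
  have hx0 : 0 < x := by omega
  nlinarith [Nat.sub_add_cancel (show 1 ≤ p ^ n from Nat.one_le_pow _ _ (Fact.out : p.Prime).pos)]

/-- The irreducible normal subgroup of class two. -/
theorem exists_class_two_normal (hsolv : Group.IsSolvable H) :
    ∃ N : Subgroup H, N.Normal ∧ ¬ IsMulCommutative N ∧ Irred N ∧
      (∃ r : ℕ, r.Prime ∧ r ≠ p ∧ IsPGroup r N) ∧
      ∀ x ∈ N, ∀ y ∈ N, ∀ z ∈ N, z * (x * y * x⁻¹ * y⁻¹) = (x * y * x⁻¹ * y⁻¹) * z := by
  classical
  haveI := hsolv
  obtain ⟨A, hA, hc, hmax⟩ := exists_max_abelian (H := H)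
  haveI := hA
  let S := {M : Subgroup H | M.Normal ∧ M ≤ Subgroup.centralizer (A : Set H) ∧ ¬ IsMulCommutative M}
  obtain ⟨N, ⟨hN, hNle, hna⟩, hmin⟩ := (wellFounded_lt (α := Subgroup H)).has_min S
    ⟨_, inferInstance, le_rfl, transitive_centralizer_nonabelian htr hI hA hc hmax⟩
  haveI := hN
  have hirr := transitive_irred_of_nonabelian htr hN hna
  have hlt : (⁅N, N⁆ : Subgroup H) < N := by
    haveI : Nontrivial N := by
      by_contra hn
      haveI : Subsingleton N := not_nontrivial_iff_subsingleton.1 hn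
      exact hna (IsMulCommutative.of_comm fun a b => Subsingleton.elim _ _)
    have h1 := Group.IsSolvable.commutator_lt_top_of_nontrivial N
    refine lt_of_le_of_ne (Subgroup.commutator_le_self N) fun he => h1.ne ?_
    apply Subgroup.map_injective N.subtype_injective
    rw [Subgroup.map_subtype_commutator, he, ← MonoidHom.range_eq_map, Subgroup.range_subtype]
  haveI : (⁅N, N⁆ : Subgroup H).Normal := Subgroup.commutator_normal N N
  have hle : ⁅N, N⁆ ≤ N := hlt.le
  have hNNc : IsMulCommutative (⁅N, N⁆ : Subgroup H) :=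
    by_contra fun h => hmin _ ⟨inferInstance, hle.trans hNle, h⟩ hlt
  have hgenc : IsMulCommutative (Subgroup.closure ((A : Set H) ∪ (⁅N, N⁆ : Subgroup H))) := by
    refine Subgroup.isMulCommutative_closure ?_
    rintro x (hx | hx) y (hy | hy)
    · exact congrArg Subtype.val (hc.is_comm.comm (⟨x, hx⟩ : A) ⟨y, hy⟩)
    · exact Subgroup.mem_centralizer_iff.1 (hNle (hle hy)) x hx
    · exact (Subgroup.mem_centralizer_iff.1 (hNle (hle hx)) y hy).symm
    · exact congrArg Subtype.val (hNNc.is_comm.comm (⟨x, hx⟩ : (⁅N, N⁆ : Subgroup H)) ⟨y, hy⟩)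
  have hsup : A ⊔ ⁅N, N⁆ = A := by
    refine hmax _ inferInstance ?_ le_sup_left
    rwa [Subgroup.sup_eq_closure]
  have hNA : ⁅N, N⁆ ≤ A := le_sup_right.trans hsup.le
  have hclass : ∀ x ∈ N, ∀ y ∈ N, ∀ z ∈ N,
      z * (x * y * x⁻¹ * y⁻¹) = (x * y * x⁻¹ * y⁻¹) * z := fun x hx y hy z hz =>
    (Subgroup.mem_centralizer_iff.1 (hNle hz) _
      (hNA (Subgroup.commutator_mem_commutator hx hy))).symm
  refine ⟨N, hN, hna, hirr, ?_, hclass⟩
  haveI : Group.IsNilpotent N := by
    refine Group.of_quotient_center_nilpotent ?_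
    letI : CommGroup (N ⧸ Subgroup.center N) :=
      { (inferInstance : Group (N ⧸ Subgroup.center N)) with
        mul_comm := fun a b => by
          induction a using QuotientGroup.induction_on with | _ x => ?_
          induction b using QuotientGroup.induction_on with | _ y => ?_
          rw [← QuotientGroup.mk_mul, ← QuotientGroup.mk_mul, QuotientGroup.eq,
            Subgroup.mem_center_iff]
          intro z
          refine Subtype.ext ?_
          have h := hclass (y : H)⁻¹ (inv_mem y.2) (x : H)⁻¹ (inv_mem x.2) z z.2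
          simpa [mul_assoc] using h }
    exact CommGroup.isNilpotent
  obtain ⟨r, hr, P, hP⟩ : ∃ r : ℕ, r.Prime ∧ ∃ P : Sylow r N, ¬ IsMulCommutative (P : Subgroup N) := by
    by_contra h
    push Not at h
    apply hna
    obtain ⟨e⟩ := ((Group.isNilpotent_of_finite_tfae (G := N)).out 0 4 rfl rfl).1 ‹_›
    refine IsMulCommutative.of_comm fun a b => e.symm.injective ?_
    rw [map_mul, map_mul]
    funext i P
    haveI : Fact (Nat.Prime i.1) := ⟨Nat.prime_of_mem_primeFactors i.2⟩
    exact (h i.1 (Nat.prime_of_mem_primeFactors i.2) P).is_comm.comm _ _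
  haveI : Fact r.Prime := ⟨hr⟩
  haveI : (P : Subgroup N).Normal :=
    (((Group.isNilpotent_of_finite_tfae (G := N)).out 0 3 :
      Group.IsNilpotent N ↔ ∀ (q : ℕ) (_ : Fact q.Prime) (Q : Sylow q N), (Q : Subgroup N).Normal)).1
      inferInstance r ⟨hr⟩ P
  haveI : (P : Subgroup N).Characteristic := Sylow.characteristic_of_normal P inferInstance
  haveI : ((P : Subgroup N).map N.subtype).Normal := inferInstance
  have hPtop : (P : Subgroup N).map N.subtype = N := by
    refine eq_of_le_of_not_lt (Subgroup.map_subtype_le _) (hmin _ ⟨inferInstance,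
      (Subgroup.map_subtype_le _).trans hNle, fun h => hP ?_⟩)
    refine IsMulCommutative.of_comm fun a b => Subtype.ext (N.subtype_injective ?_)
    have h1 := congrArg Subtype.val (h.is_comm.comm (⟨_, Subgroup.mem_map_of_mem N.subtype a.2⟩ :
      (P : Subgroup N).map N.subtype) ⟨_, Subgroup.mem_map_of_mem N.subtype b.2⟩)
    simp only [Subgroup.coe_mul, map_mul] at h1 ⊢
    exact h1
  have hrN : IsPGroup r N := hPtop ▸ P.isPGroup'.map N.subtype
  refine ⟨r, hr, fun hrp => hna ?_, hrN⟩
  subst hrp
  -- a `p`-group fixes a non-zero vector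
  let _ : MulAction N V :=
    { smul := fun x v => ((x : H) : V ≃ₗ[ZMod r] V) v
      one_smul := fun v => rfl
      mul_smul := fun a b v => rfl }
  have hdvd : r ∣ Nat.card V := by
    rw [Module.natCard_eq_pow_finrank (K := ZMod r) (V := V), Nat.card_zmod]
    haveI : Module.Finite (ZMod r) V := Module.Finite.of_finite
    exact dvd_pow_self r Module.finrank_pos.ne'
  obtain ⟨v, hv, hv0⟩ := hrN.exists_fixed_point_of_prime_dvd_card_of_fixed_point V hdvd
    (a := (0 : V)) (fun x => map_zero ((x : H) : V ≃ₗ[ZMod r] V))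
  let U : Submodule (ZMod r) V :=
    { carrier := {u | ∀ x ∈ N, ((x : H) : V ≃ₗ[ZMod r] V) u = u}
      add_mem' := fun {a b} ha hb x hx => by rw [map_add, ha x hx, hb x hx]
      zero_mem' := fun x hx => map_zero _
      smul_mem' := fun c a ha x hx => by rw [map_smul, ha x hx] }
  have hvU : v ∈ U := fun x hx => hv ⟨x, hx⟩
  rcases hirr U (fun a ha u hu => (hu a ha).symm ▸ hu) with h | h
  · exact absurd ((Submodule.mem_bot _).1 (h ▸ hvU)) (Ne.symm hv0)
  · refine IsMulCommutative.of_comm fun a b => Subtype.ext (endHom_injective H (LinearMap.ext fun u => ?_))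
    have hu : u ∈ U := h.symm ▸ Submodule.mem_top
    rw [endHom_apply, endHom_apply]
    exact (hu _ (a * b).2).trans (hu _ (b * a).2).symm

end CfsgLib.TransitiveLinear
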