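import Mathlib

/-!
An absolutely irreducible matrix representation of a group of class two: it has degree the square
root of the index of the centre, and the commutant of a coprime group of operators is counted by
orbits on the central quotient.
-/

set_option autoImplicit false
set_option linter.unusedSectionVars false

open Matrix

namespace CfsgLib.TransitiveLinear

/-- An absolutely irreducible class two representation. -/
structure ClassTwoRep (F : Type*) [Field F] (ι : Type*) [Fintype ι] [DecidableEq ι]
    (N : Type*) [Group N] where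
  /-- the representation -/
  rho : N →* Matrix ι ι F
  /-- commutators are central -/
  class_two : ∀ x y : N, x * y * x⁻¹ * y⁻¹ ∈ Subgroup.center N
  /-- the representation is faithful -/
  inj : Function.Injective rho
  /-- central elements are scalars -/
  scalar : ∀ z ∈ Subgroup.center N, ∃ c : F, rho z = c • 1
  /-- only scalars commute with the image -/
  schur : ∀ X, (∀ x, rho x * X = X * rho x) → ∃ c : F, X = c • 1
  /-- the index of the centre is invertible -/
  index_ne : ((Subgroup.center N).index : F) ≠ 0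

variable {F : Type*} [Field F] {ι : Type*} [Fintype ι] [DecidableEq ι] {N : Type*} [Group N]
  [Finite N] (R : ClassTwoRep F ι N)

namespace ClassTwoRep

theorem rho_mul_inv (x : N) : R.rho x * R.rho x⁻¹ = 1 := by rw [← map_mul, mul_inv_cancel, map_one]

theorem rho_inv_mul (x : N) : R.rho x⁻¹ * R.rho x = 1 := by rw [← map_mul, inv_mul_cancel, map_one]

theorem trace_eq_zero {x : N} (hx : x ∉ Subgroup.center N) : Matrix.trace (R.rho x) = 0 := by
  obtain ⟨y, hy⟩ : ∃ y, y * x ≠ x * y := by
    by_contra h
    push Not at h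
    exact hx (Subgroup.mem_center_iff.2 h)
  obtain ⟨c, hc⟩ := R.scalar _ (R.class_two y x)
  have e : R.rho y * R.rho x * R.rho y⁻¹ = c • R.rho x := by
    have : y * x * y⁻¹ = y * x * y⁻¹ * x⁻¹ * x := by group
    rw [← map_mul, ← map_mul, this, map_mul, hc, smul_mul_assoc, one_mul]
  have hc1 : c ≠ 1 := by
    intro h
    rw [h, one_smul, ← map_one R.rho] at hc
    exact hy (mul_inv_eq_iff_eq_mul.1 (mul_inv_eq_one.1 (R.inj hc)))
  have ht := congrArg Matrix.trace e
  rw [Matrix.trace_mul_comm, ← mul_assoc, R.rho_inv_mul, one_mul, Matrix.trace_smul,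
    smul_eq_mul] at ht
  have : (c - 1) * Matrix.trace (R.rho x) = 0 := by linear_combination -ht
  exact (mul_eq_zero.1 this).resolve_left (sub_ne_zero.2 hc1)

/-- Conjugation depends only on the coset of the centre. -/
theorem conj_congr {x y : N} (h : x⁻¹ * y ∈ Subgroup.center N) (A : Matrix ι ι F) :
    R.rho y * A * R.rho y⁻¹ = R.rho x * A * R.rho x⁻¹ := by
  obtain ⟨c, hc⟩ := R.scalar _ h
  have hy : R.rho y = c • R.rho x := by
    rw [show y = x * (x⁻¹ * y) by group, map_mul, hc, mul_smul_comm, mul_one]
  obtain ⟨d, hd⟩ := R.scalar _ (inv_mem h)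
  have hy' : R.rho y⁻¹ = d • R.rho x⁻¹ := by
    rw [show y⁻¹ = (x⁻¹ * y)⁻¹ * x⁻¹ by group, map_mul, hd, smul_mul_assoc, one_mul]
  have hcd : (c * d) • (1 : Matrix ι ι F) = 1 := by
    conv_rhs => rw [← R.rho_mul_inv y, hy, hy', smul_mul_smul_comm, R.rho_mul_inv]
  rw [hy, hy', smul_mul_assoc, smul_mul_assoc, mul_smul_comm, smul_smul]
  conv_lhs => rw [← one_mul (R.rho x * A * R.rho x⁻¹), ← smul_mul_assoc, hcd, one_mul]

variable [Fintype (N ⧸ Subgroup.center N)] {s : N ⧸ Subgroup.center N → N}
  (hs : ∀ w, QuotientGroup.mk (s w) = w)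

/-- The linear map from functions on the central quotient to matrices. -/
def spanMap (s : N ⧸ Subgroup.center N → N) :
    (N ⧸ Subgroup.center N → F) →ₗ[F] Matrix ι ι F where
  toFun a := ∑ w, a w • R.rho (s w)
  map_add' a b := by simp only [Pi.add_apply, add_smul, Finset.sum_add_distrib]
  map_smul' c a := by simp only [Pi.smul_apply, smul_eq_mul, mul_smul, Finset.smul_sum, RingHom.id_apply]

include hs

theorem average_comm (A : Matrix ι ι F) (y : N) :
    R.rho y * (∑ w, R.rho (s w) * A * R.rho (s w)⁻¹) =
      (∑ w, R.rho (s w) * A * R.rho (s w)⁻¹) * R.rho y := by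
  have h : R.rho y * (∑ w, R.rho (s w) * A * R.rho (s w)⁻¹) * R.rho y⁻¹ =
      ∑ w, R.rho (s w) * A * R.rho (s w)⁻¹ := by
    rw [Finset.mul_sum, Finset.sum_mul]
    refine Fintype.sum_equiv (Equiv.mulLeft (y : N ⧸ Subgroup.center N)) _ _ fun w => ?_
    rw [show R.rho y * (R.rho (s w) * A * R.rho (s w)⁻¹) * R.rho y⁻¹ =
      R.rho (y * s w) * A * R.rho (y * s w)⁻¹ by
        rw [_root_.mul_inv_rev, map_mul, map_mul]; simp only [mul_assoc]]
    refine R.conj_congr ?_ A
    rw [Equiv.coe_mulLeft, ← QuotientGroup.eq, hs, QuotientGroup.mk_mul, hs]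
  calc R.rho y * (∑ w, R.rho (s w) * A * R.rho (s w)⁻¹) =
      R.rho y * (∑ w, R.rho (s w) * A * R.rho (s w)⁻¹) * R.rho y⁻¹ * R.rho y := by
        rw [mul_assoc (_ * _) (R.rho y⁻¹), R.rho_inv_mul, mul_one]
    _ = _ := by rw [h]

theorem average_eq [Nonempty ι] : (Fintype.card ι : F) ≠ 0 ∧ ∀ A : Matrix ι ι F,
    (∑ w, R.rho (s w) * A * R.rho (s w)⁻¹) =
      (((Subgroup.center N).index : F) / Fintype.card ι * Matrix.trace A) • 1 := by
  have key : ∀ A : Matrix ι ι F, ∃ c : F, (∑ w, R.rho (s w) * A * R.rho (s w)⁻¹) = c • 1 ∧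
      c * Fintype.card ι = ((Subgroup.center N).index : F) * Matrix.trace A := by
    intro A
    obtain ⟨c, hc⟩ := R.schur _ fun y => R.average_comm hs A y
    refine ⟨c, hc, ?_⟩
    have ht := congrArg Matrix.trace hc
    rw [Matrix.trace_smul, Matrix.trace_one, smul_eq_mul, Matrix.trace_sum] at ht
    rw [← ht, Subgroup.index, Nat.card_eq_fintype_card, ← Finset.card_univ, ← nsmul_eq_mul,
      ← Finset.sum_const]
    refine Finset.sum_congr rfl fun w _ => ?_
    rw [Matrix.trace_mul_comm, ← mul_assoc, R.rho_inv_mul, one_mul]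
  have hn : (Fintype.card ι : F) ≠ 0 := by
    obtain ⟨i⟩ := (inferInstance : Nonempty ι)
    obtain ⟨c, -, hc⟩ := key (Matrix.single i i 1)
    intro h
    rw [h, mul_zero, Matrix.trace_single_eq_same, mul_one] at hc
    exact R.index_ne hc.symm
  refine ⟨hn, fun A => ?_⟩
  obtain ⟨c, hc, hc'⟩ := key A
  rw [hc]
  congr 1
  field_simp
  linear_combination hc'

theorem span_bijective [Nonempty ι] : Function.Bijective (R.spanMap s) := by
  classical
  obtain ⟨hn, hav⟩ := R.average_eq hs
  constructor
  · rw [← LinearMap.ker_eq_bot, Submodule.eq_bot_iff]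
    intro a ha
    rw [LinearMap.mem_ker] at ha
    ext w₀
    have h := congrArg (fun X => Matrix.trace (R.rho (s w₀)⁻¹ * X)) ha
    simp only [spanMap, LinearMap.coe_mk, AddHom.coe_mk, Finset.mul_sum, mul_smul_comm,
      Matrix.trace_sum, Matrix.trace_smul, ← map_mul, mul_zero, Matrix.trace_zero] at h
    rw [Finset.sum_eq_single w₀] at h
    · rw [inv_mul_cancel, map_one, Matrix.trace_one, smul_eq_mul] at h
      exact (mul_eq_zero.1 h).resolve_right hn
    · intro w _ hw
      rw [R.trace_eq_zero, smul_zero]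
      intro hmem
      refine hw ?_
      have := QuotientGroup.eq.2 hmem
      rw [hs, hs] at this
      exact this.symm
    · simp
  · intro B
    set κ : F := ((Subgroup.center N).index : F) / Fintype.card ι with hκ
    have hκ0 : κ ≠ 0 := div_ne_zero R.index_ne hn
    refine ⟨fun w => κ⁻¹ * Matrix.trace (R.rho (s w)⁻¹ * B), ?_⟩
    simp only [spanMap, LinearMap.coe_mk, AddHom.coe_mk, mul_smul, ← Finset.smul_sum]
    rw [inv_smul_eq_iff₀ hκ0]
    ext a d
    have hentry : ∀ b c : ι, (∑ w, R.rho (s w) a d * R.rho (s w)⁻¹ b c) =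
        if d = b ∧ a = c then κ else 0 := by
      intro b c
      have h := congrArg (fun X : Matrix ι ι F => X a c) (hav (Matrix.single d b 1))
      simp only [Matrix.sum_apply, Matrix.smul_apply, smul_eq_mul, Matrix.one_apply] at h
      convert h using 1
      · refine Finset.sum_congr rfl fun w _ => ?_
        simp [Matrix.mul_apply, Matrix.single_apply, ite_and]
      · by_cases hdb : d = b
        · subst hdb; simp [← hκ]
        · simp [hdb, Matrix.trace_single_eq_of_ne]
    simp only [Matrix.sum_apply, Matrix.smul_apply, smul_eq_mul, Matrix.trace, Matrix.diag_apply,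
      Matrix.mul_apply, Finset.sum_mul]
    rw [Finset.sum_comm]
    calc ∑ b, ∑ w, ∑ c, R.rho (s w)⁻¹ b c * B c b * R.rho (s w) a d
        = ∑ b, ∑ c, (∑ w, R.rho (s w) a d * R.rho (s w)⁻¹ b c) * B c b := by
          refine Finset.sum_congr rfl fun b _ => ?_
          rw [Finset.sum_comm]
          refine Finset.sum_congr rfl fun c _ => ?_
          rw [Finset.sum_mul]
          exact Finset.sum_congr rfl fun w _ => by ring
      _ = _ := by simp [hentry, ite_and]

include R in
theorem sq_card_eq_index [Nonempty ι] :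
    (Fintype.card ι) ^ 2 = (Subgroup.center N).index := by
  have h := (LinearEquiv.ofBijective _ (R.span_bijective hs)).finrank_eq
  rw [Module.finrank_pi, Module.finrank_matrix, Module.finrank_self, mul_one] at h
  rw [Subgroup.index, Nat.card_eq_fintype_card, h, sq]

end ClassTwoRep

/-- Operators of a class two representation. -/
structure Operators (R : ClassTwoRep F ι N) (Γ : Type*) [Group Γ] where
  /-- the matrices -/
  T : Γ →* Matrix ι ι F
  /-- the induced automorphisms -/
  act : Γ →* MulAut N
  /-- compatibility -/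
  conj : ∀ u x, T u * R.rho x * T u⁻¹ = R.rho (act u x)

namespace Operators

variable {R} {Γ : Type*} [Group Γ] [Finite Γ] (O : Operators R Γ)

theorem act_center {z : N} (hz : z ∈ Subgroup.center N) (u : Γ) : O.act u z = z := by
  apply R.inj
  obtain ⟨c, hc⟩ := R.scalar z hz
  rw [← O.conj, hc, mul_smul_comm, smul_mul_assoc, mul_one, ← map_mul, mul_inv_cancel, map_one]

/-- The action on the central quotient. -/
@[reducible] def quotientAction : MulAction Γ (N ⧸ Subgroup.center N) where
  smul u := QuotientGroup.map _ _ (O.act u).toMonoidHom fun z hz => by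
    show O.act u z ∈ Subgroup.center N
    rw [O.act_center hz]; exact hz
  one_smul w := by
    induction w using QuotientGroup.induction_on with | _ x => ?_
    show ((O.act 1 x : N) : N ⧸ Subgroup.center N) = x
    rw [map_one]; rfl
  mul_smul u v w := by
    induction w using QuotientGroup.induction_on with | _ x => ?_
    show ((O.act (u * v) x : N) : N ⧸ Subgroup.center N) = (O.act u (O.act v x) : N)
    rw [map_mul]; rfl

theorem exists_section (hcop : (Nat.card Γ).Coprime (Nat.card (Subgroup.center N))) :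
    letI := O.quotientAction
    ∃ s : N ⧸ Subgroup.center N → N, (∀ w, QuotientGroup.mk (s w) = w) ∧
      ∀ (u : Γ) w, s (u • w) = O.act u (s w) := by
  classical
  letI := O.quotientAction
  have hsmul : ∀ (u : Γ) (x : N), u • (x : N ⧸ Subgroup.center N) = (O.act u x : N) := fun _ _ => rfl
  have hfix : ∀ (u : Γ) (x : N), u • (x : N ⧸ Subgroup.center N) = x → O.act u x = x := by
    intro u x hu
    have hz : x⁻¹ * O.act u x ∈ Subgroup.center N := QuotientGroup.eq.1 (hu.symm.trans (hsmul u x))
    have hk : ∀ k : ℕ, O.act (u ^ k) x = x * (x⁻¹ * O.act u x) ^ k := by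
      intro k
      induction k with
      | zero => simp
      | succ k ih =>
        rw [pow_succ', map_mul, MulAut.mul_apply, ih, map_mul, map_pow, O.act_center hz, pow_succ',
          ← mul_assoc, mul_inv_cancel_left]
    have h1 := hk (orderOf u)
    rw [pow_orderOf_eq_one, map_one, MulAut.one_apply] at h1
    have h2 : x⁻¹ * O.act u x = 1 := orderOf_eq_one_iff.1 (Nat.eq_one_of_dvd_coprimes hcop
      ((orderOf_dvd_of_pow_eq_one (mul_eq_left.1 h1.symm)).trans (orderOf_dvd_natCard u))
      (by rw [← Subgroup.orderOf_mk _ hz]; exact orderOf_dvd_natCard _))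
    exact (inv_mul_eq_one.1 h2).symm
  let base : N ⧸ Subgroup.center N → N ⧸ Subgroup.center N := fun w =>
    (Quotient.mk (MulAction.orbitRel Γ (N ⧸ Subgroup.center N)) w).out
  have hbase : ∀ w, ∃ h : Γ, h • base w = w := by
    intro w
    have h := Quotient.mk_out (s := MulAction.orbitRel Γ (N ⧸ Subgroup.center N)) w
    rw [MulAction.orbitRel_apply] at h
    obtain ⟨h', hh'⟩ := h
    refine ⟨h'⁻¹, ?_⟩
    show h'⁻¹ • base w = w
    rw [inv_smul_eq_iff]
    exact hh'.symm
  choose mv hmv using hbase
  have hinv : ∀ (u : Γ) w, base (u • w) = base w := fun u w => by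
    show (Quotient.mk _ (u • w)).out = (Quotient.mk _ w).out
    congr 1
    exact Quotient.sound ⟨u, rfl⟩
  refine ⟨fun w => O.act (mv w) (base w).out, fun w => ?_, fun u w => ?_⟩
  · show ((O.act (mv w) (base w).out : N) : N ⧸ Subgroup.center N) = w
    rw [← hsmul, QuotientGroup.out_eq']
    exact hmv w
  · show O.act (mv (u • w)) (base (u • w)).out = O.act u (O.act (mv w) (base w).out)
    rw [hinv]
    have h := hfix ((u * mv w)⁻¹ * mv (u • w)) (base w).out (by
      rw [QuotientGroup.out_eq', mul_smul, inv_smul_eq_iff, mul_smul, hmv w]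
      have := hmv (u • w)
      rwa [hinv] at this)
    calc O.act (mv (u • w)) (base w).out
        = O.act (u * mv w) (O.act ((u * mv w)⁻¹ * mv (u • w)) (base w).out) := by
          rw [← MulAut.mul_apply, ← map_mul, mul_inv_cancel_left]
      _ = _ := by rw [h, map_mul]; rfl

/-- The commutant of the operators has `|F| ^ (number of orbits)` elements. -/
theorem card_commutant [Finite F] [Nonempty ι]
    (hcop : (Nat.card Γ).Coprime (Nat.card (Subgroup.center N))) :
    letI := O.quotientAction
    Nat.card {X : Matrix ι ι F // ∀ u, O.T u * X = X * O.T u} =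
      Nat.card F ^ Nat.card (MulAction.orbitRel.Quotient Γ (N ⧸ Subgroup.center N)) := by
  classical
  letI := O.quotientAction
  haveI : Fintype (N ⧸ Subgroup.center N) := Fintype.ofFinite _
  obtain ⟨s, hs, hse⟩ := O.exists_section hcop
  have hΦ := R.span_bijective hs
  set Φ := R.spanMap s with hΦdef
  have hTi : ∀ u, O.T u * O.T u⁻¹ = 1 := fun u => by rw [← map_mul, mul_inv_cancel, map_one]
  have hTi' : ∀ u, O.T u⁻¹ * O.T u = 1 := fun u => by rw [← map_mul, inv_mul_cancel, map_one]
  have hconj : ∀ u a, O.T u * Φ a * O.T u⁻¹ = Φ fun w => a (u⁻¹ • w) := by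
    intro u a
    simp only [hΦdef, ClassTwoRep.spanMap, LinearMap.coe_mk, AddHom.coe_mk, Finset.mul_sum,
      Finset.sum_mul, mul_smul_comm, smul_mul_assoc, O.conj, ← hse]
    exact Fintype.sum_equiv (MulAction.toPerm u) _ _ fun w => by simp
  have hiff : ∀ a, (∀ u, O.T u * Φ a = Φ a * O.T u) ↔ ∀ (u : Γ) w, a (u • w) = a w := by
    intro a
    constructor
    · intro h u w
      have h1 := hconj u a
      rw [h u, mul_assoc, hTi, mul_one] at h1
      have h2 := congrFun (hΦ.1 h1) (u • w)
      simpa using h2
    · intro h u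
      have h1 := hconj u a
      have e : (fun w => a (u⁻¹ • w)) = a := funext fun w => h u⁻¹ w
      rw [e] at h1
      calc O.T u * Φ a = O.T u * Φ a * O.T u⁻¹ * O.T u := by
            rw [mul_assoc (_ * _) (O.T u⁻¹), hTi', mul_one]
        _ = _ := by rw [h1]
  let f : (MulAction.orbitRel.Quotient Γ (N ⧸ Subgroup.center N) → F) →
      {X : Matrix ι ι F // ∀ u, O.T u * X = X * O.T u} := fun a =>
    ⟨Φ fun w => a (Quotient.mk _ w), (hiff _).2 fun u w => by
      congr 1; exact Quotient.sound ⟨u, rfl⟩⟩
  have hf : Function.Bijective f := by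
    constructor
    · intro a b h
      have h1 := hΦ.1 (congrArg Subtype.val h)
      funext q
      induction q using Quotient.inductionOn with | h w => exact congrFun h1 w
    · rintro ⟨X, hX⟩
      obtain ⟨a, rfl⟩ := hΦ.2 X
      refine ⟨Quotient.lift a fun v w hvw => ?_, Subtype.ext rfl⟩
      obtain ⟨u, rfl⟩ := hvw
      exact (hiff a).1 hX u w
  rw [← Nat.card_eq_of_bijective f hf, Nat.card_fun]

end Operators

end CfsgLib.TransitiveLinear
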